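import Cfsg.Agent.LThree.Red
import Cfsg.Agent.J2Type.FourSelfCent
import Cfsg.Agent.SmallSimple.OrderEight
import Cfsg.Agent.S0205
import Cfsg.Agent.S0215
import Cfsg.Agent.S0848
import Cfsg.Agent.S0493
import Cfsg.Agent.S0494
import Cfsg.Agent.S0495
import Cfsg.Agent.FastGrp
import Cfsg.Agent.Prune
set_option linter.all false
prune_inst 0x7f00000000000000000000000000000000000000000000000000000000000000000000000000000000000000000000000000000000000000000000000000000000000000000000000000000000000000003fffffffffffffffffffffffffffbeffbdffffffff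
open scoped Cfsg.Agent.FastGrp

-- merged: Cfsg.Agent.CpAut.SmallP.Gen
section

/-!
# Centralizers of elements of order `p ≥ 5`: the small cases (helper91)

`main` : `x` of prime order `p ≥ 5`. Assume that for every involution `t ∈ C(x)` one of the following holds:
* `C(t) ∩ C(x)` is solvable and `t` is its only involution;
* `|C(t) ∩ C(x)|` divides `4p`;
* `p = 7`, `|C(t) ∩ C(x)|` divides `8p`, and `C(t) ∩ C(x)` is nonabelian if its order is `8p`.
Then every component of `C(x) / O_{p'}(C(x))` is a `C_p`-group (there is none unless `p = 5`: `A₅`, or `p = 7`: `L₂(7)`).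
-/

set_option autoImplicit false
set_option linter.unusedSectionVars false

namespace Cfsg.Agent.CpAut.SmallP

open Subgroup Cfsg

section Solv

variable {H : Type*} [Group H] [Finite H]

/-- if `t` is an involution, `N` a normal subgroup of odd order with `[t, g] ∈ N`, then `g ∈ N C(t)` -/
theorem exists_mul_centralizer (N : Subgroup H) [N.Normal] (hN : Odd (Nat.card N)) (t : H) (ht : t * t = 1)
    (hc : ∀ g : H, t * g * t⁻¹ * g⁻¹ ∈ N) (g : H) : ∃ n ∈ N, n * g ∈ centralizer ({t} : Set H) := by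
  have ht' : t⁻¹ = t := inv_eq_of_mul_eq_one_right ht
  set n : H := t * g * t⁻¹ * g⁻¹ with hn
  have hnN : n ∈ N := hc g
  have hodd : Odd (orderOf n) := by
    have h1 : orderOf n ∣ Nat.card N := by
      rw [← Subgroup.orderOf_mk n hnN]
      exact _root_.orderOf_dvd_natCard _
    exact hN.of_dvd_nat h1
  obtain ⟨k, hk⟩ := hodd
  -- `t n t = n⁻¹`
  have h1 : t * n * t = n⁻¹ := by
    rw [hn, ht']
    simp only [mul_inv_rev, inv_inv, ht']
    calc t * (t * g * t * g⁻¹) * t = (t * t) * (g * t * g⁻¹ * t) := by group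
      _ = g * (t * (g⁻¹ * t)) := by rw [ht]; group
  have h2 : ∀ j : ℕ, t * n ^ j * t = (n ^ j)⁻¹ := by
    intro j
    induction j with
    | zero => simp [ht]
    | succ j ih =>
      calc t * n ^ (j + 1) * t = (t * n ^ j * t) * (t * n * t) := by
            rw [pow_succ]
            calc t * (n ^ j * n) * t = t * n ^ j * 1 * n * t := by group
              _ = t * n ^ j * (t * t) * n * t := by rw [ht]
              _ = _ := by group
        _ = (n ^ (j + 1))⁻¹ := by rw [ih, h1, pow_succ']; group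
  refine ⟨n ^ (k + 1), N.pow_mem hnN _, ?_⟩
  rw [mem_centralizer_singleton_iff]
  -- `g t g⁻¹ = t n` hence conjugating by `n^(k+1)` gives `t`
  have h3 : g * t * g⁻¹ = t * n := by
    rw [hn, ht']
    calc g * t * g⁻¹ = (t * t) * (g * t * g⁻¹) := by rw [ht, one_mul]
      _ = t * (t * g * t * g⁻¹) := by group
  have h4 : n ^ (k + 1) * t = t * (n ^ (k + 1))⁻¹ := by
    rw [← h2 (k + 1)]
    calc n ^ (k + 1) * t = (t * t) * n ^ (k + 1) * t := by rw [ht, one_mul]
      _ = _ := by group
  have h5 : n ^ (k + 1) * n ^ (k + 1) = n := by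
    rw [← pow_add, show k + 1 + (k + 1) = 2 * k + 1 + 1 by ring, ← hk, pow_succ, pow_orderOf_eq_one, one_mul]
  calc n ^ (k + 1) * g * t = n ^ (k + 1) * (g * t * g⁻¹) * g := by group
    _ = (n ^ (k + 1) * t) * n * g := by rw [h3]; group
    _ = t * (n ^ (k + 1))⁻¹ * (n ^ (k + 1) * n ^ (k + 1)) * g := by rw [h4, h5]
    _ = t * (n ^ (k + 1) * g) := by group

theorem isSolvable_of_two_rank_one
    (h1 : ∀ t s : H, t * t = 1 → t ≠ 1 → s * s = 1 → s ≠ 1 → s * t = t * s → s = t)
    (h2 : ∀ t : H, t * t = 1 → t ≠ 1 → Group.IsSolvable ↥(centralizer ({t} : Set H))) :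
    Group.IsSolvable H := by
  by_cases hodd : Odd (Nat.card H)
  · exact S0205.result hodd
  rw [Nat.not_odd_iff_even] at hodd
  have : Fact (Nat.Prime 2) := ⟨Nat.prime_two⟩
  obtain ⟨S⟩ : Nonempty (Sylow 2 H) := inferInstance
  have hS1 : (S : Subgroup H) ≠ ⊥ := by
    intro h
    have h3 := S.card_eq_multiplicity
    rw [h, Subgroup.card_bot] at h3
    have h4 : 0 < (Nat.card H).factorization 2 :=
      Nat.prime_two.factorization_pos_of_dvd Nat.card_pos.ne' hodd.two_dvd
    have h5 := Nat.one_lt_pow h4.ne' (by norm_num : 1 < 2)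
    omega
  have hnt : Nontrivial ↥(S : Subgroup H) := (Subgroup.nontrivial_iff_ne_bot _).2 hS1
  have hZ := S.2.center_nontrivial
  obtain ⟨z, hz⟩ := (Subgroup.nontrivial_iff_exists_ne_one _).1 hZ
  obtain ⟨hzZ, hz1⟩ := hz
  obtain ⟨k, hk⟩ := (IsPGroup.iff_orderOf.1 (S.2.to_subgroup (center ↥(S : Subgroup H)))) ⟨z, hzZ⟩
  have hk0 : k ≠ 0 := by
    rintro rfl
    rw [pow_zero, orderOf_eq_one_iff] at hk
    exact hz1 (congrArg Subtype.val hk)
  obtain ⟨m, rfl⟩ := Nat.exists_eq_succ_of_ne_zero hk0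
  have hoz : orderOf z = 2 ^ (m + 1) := (Subgroup.orderOf_mk z hzZ).symm.trans hk
  set u : ↥(S : Subgroup H) := z ^ (2 ^ m) with hu
  have hou : orderOf u = 2 := by
    rw [hu, orderOf_pow' z (by positivity), hoz, Nat.gcd_eq_right (pow_dvd_pow 2 (Nat.le_succ m)), pow_succ,
      Nat.mul_div_cancel_left _ (by positivity)]
  have huZ : u ∈ center ↥(S : Subgroup H) := Subgroup.pow_mem _ hzZ _
  have huu : (u : H) * u = 1 := by
    have := pow_orderOf_eq_one u
    rw [hou, pow_two] at this
    exact congrArg Subtype.val this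
  have hu1 : (u : H) ≠ 1 := by
    intro h
    have h3 : u = 1 := Subtype.ext h
    rw [h3, orderOf_one] at hou
    norm_num at hou
  have hou' : orderOf (u : H) = 2 := by rw [Subgroup.orderOf_coe, hou]
  obtain ⟨N, hN, hNo, hNc⟩ := S0215.result S (u : H) hou' u.2 (by
    intro g hg
    refine h1 (u : H) (g * u * g⁻¹) huu hu1 ?_ ?_ ?_
    · calc g * u * g⁻¹ * (g * u * g⁻¹) = g * (u * u) * g⁻¹ := by group
        _ = 1 := by rw [huu]; group
    · intro h
      apply hu1
      calc (u : H) = g⁻¹ * (g * u * g⁻¹) * g := by group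
        _ = 1 := by rw [h]; group
    · have := mem_center_iff.1 huZ ⟨g * u * g⁻¹, hg⟩
      exact congrArg Subtype.val this)
  have hNs : Group.IsSolvable ↥N := S0205.result hNo
  have := h2 _ huu hu1
  have hQ : Group.IsSolvable (H ⧸ N) := by
    refine Group.isSolvable_of_surjective (f := (QuotientGroup.mk' N).comp (centralizer ({(u : H)} : Set H)).subtype) ?_
    intro q
    obtain ⟨g, rfl⟩ := QuotientGroup.mk_surjective q
    obtain ⟨n, hn, hc⟩ := exists_mul_centralizer N hNo (u : H) huu hNc g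
    refine ⟨⟨n * g, hc⟩, ?_⟩
    change ((n * g : H) : H ⧸ N) = g
    rw [QuotientGroup.mk_mul, (QuotientGroup.eq_one_iff n).2 hn, one_mul]
  exact Group.isSolvable_of_ker_le_range N.subtype (QuotientGroup.mk' N) (by
    rw [QuotientGroup.ker_mk', Subgroup.range_subtype])

end Solv


/-! ### Components -/

section Comp

universe u
variable {H : Type u} [Group H] [Finite H] {p : ℕ}

/-- in a group with trivial `p'`-core, `p` divides `|K / Z(K)|` for each component `K` -/
theorem dvd_index_center (hp : p.Prime) (hX : pPrimeCore p H = ⊥) {K : Subgroup H} (hK : IsComponent K) :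
    p ∣ Nat.card (↥K ⧸ center ↥K) := by
  have : Fact p.Prime := ⟨hp⟩
  by_contra hnd
  have hZ := LThree.Red.isPGroup_center_comp hp hX hK.1
  obtain ⟨P⟩ : Nonempty (Sylow p ↥K) := inferInstance
  have hPZ : (P : Subgroup ↥K) ≤ center ↥K := by
    have h1 : IsPGroup p ↥((P : Subgroup ↥K).map (QuotientGroup.mk' (center ↥K))) := P.2.map _
    have h2 : Nat.card ↥((P : Subgroup ↥K).map (QuotientGroup.mk' (center ↥K))) ∣ Nat.card (↥K ⧸ center ↥K) :=
      Subgroup.card_subgroup_dvd_card _
    obtain ⟨k, hk⟩ := IsPGroup.iff_card.1 h1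
    have h3 : k = 0 := by
      by_contra hk0
      apply hnd
      refine dvd_trans ?_ h2
      rw [hk]
      exact dvd_pow_self p hk0
    rw [h3, pow_zero] at hk
    have h4 := Subgroup.card_eq_one.1 hk
    rw [Subgroup.map_eq_bot_iff, QuotientGroup.ker_mk'] at h4
    exact h4
  -- Burnside: `K` has a normal `p`-complement
  have hN : normalizer ((P : Subgroup ↥K) : Set ↥K) ≤ centralizer ((P : Subgroup ↥K) : Set ↥K) := by
    intro g _
    rw [mem_centralizer_iff]
    intro y hy
    exact (mem_center_iff.1 (hPZ hy) g).symm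
  obtain ⟨N, hNn, hNc⟩ : ∃ N : Subgroup ↥K, N.Normal ∧ N.IsComplement' (P : Subgroup ↥K) :=
    ⟨(MonoidHom.transferSylow P hN).ker, inferInstance, MonoidHom.ker_transferSylow_isComplement' P hN⟩
  have h1 : Nat.card ↥N = (P : Subgroup ↥K).index := hNc.index_eq_card.symm
  have h2 : (Nat.card ↥N).Coprime p := by
    rw [h1, Nat.coprime_comm, Nat.Prime.coprime_iff_not_dvd hp]
    exact P.not_dvd_index
  have h3 := LThree.Red.comp_normal_coprime hX hK.1 hNn h2
  have h4 : (P : Subgroup ↥K) = ⊤ := by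
    have := hNc.sup_eq_top
    rw [h3, bot_sup_eq] at this
    exact this
  apply SignalizersComponents.Components.quasisimple_not_isSolvable hK.2
  have h5 : center ↥K = ⊤ := by
    rw [eq_top_iff, ← h4]
    exact hPZ
  exact Group.isSolvable_of_comm fun a b =>
    (mem_center_iff.1 (show a ∈ center ↥K by rw [h5]; exact mem_top a) b).symm

/-- a nonabelian simple quotient `K / Z(K)` -/
theorem not_comm_quot {K : Type*} [Group K] (hK : IsQuasisimple K) : ¬ IsMulCommutative (K ⧸ center K) := by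
  intro hc
  apply SignalizersComponents.Components.quasisimple_not_isSolvable hK
  rw [Group.isSolvable_iff_subgroup_quotient (center K)]
  refine ⟨?_, ?_⟩
  · exact Group.isSolvable_of_comm fun a b => Subtype.ext (mem_center_iff.1 b.2 a)
  · exact Group.isSolvable_of_comm fun a b => hc.is_comm.comm a b

/-- `x` central of order `p`, and the `n`-th derived group of `H / ⟨x⟩` has order dividing `m`. -/
theorem card_comp_dvd (x : H) (hx : x ∈ center H) (X : Subgroup H) [X.Normal] (hX : X = zpowers x) (m n : ℕ)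
    (hm : Nat.card ↥(derivedSeries (H ⧸ X) n) ∣ m) {K : Subgroup (H ⧸ pPrimeCore p H)} (hK : IsComponent K) :
    Nat.card (↥K ⧸ center ↥K) ∣ m := by
  let π : H →* H ⧸ pPrimeCore p H := QuotientGroup.mk' (pPrimeCore p H)
  have hπ : Function.Surjective π := QuotientGroup.mk'_surjective _
  have hXc : ∀ y ∈ X.map π, ∀ g, g * y = y * g := by
    rintro _ ⟨y, hy, rfl⟩ g
    obtain ⟨g, rfl⟩ := hπ g
    rw [hX] at hy
    have h1 : y ∈ center H := (zpowers_le.2 hx) hy
    rw [← map_mul, ← map_mul, mem_center_iff.1 h1 g]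
  have hXn : (X.map π).Normal := ⟨fun y hy g => by rw [hXc y hy g, mul_inv_cancel_right]; exact hy⟩
  let φ : H ⧸ X →* (H ⧸ pPrimeCore p H) ⧸ X.map π := QuotientGroup.map X (X.map π) π (le_comap_map π X)
  have hφ : Function.Surjective φ := by
    intro y
    obtain ⟨y, rfl⟩ := QuotientGroup.mk'_surjective _ y
    obtain ⟨g, rfl⟩ := hπ y
    exact ⟨(g : H ⧸ X), rfl⟩
  let q : H ⧸ pPrimeCore p H →* (H ⧸ pPrimeCore p H) ⧸ X.map π := QuotientGroup.mk' (X.map π)
  have h1 : K.map q ≤ derivedSeries _ n := by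
    have h2 := LThree.le_derivedSeries_of_perfect
      (SignalizersComponents.Components.component_commutator_self hK) n
    refine (map_mono h2).trans ?_
    exact map_derivedSeries_le_derivedSeries q n
  have h3 : Nat.card ↥(K.map q) ∣ m := by
    refine (Subgroup.card_dvd_of_le h1).trans ?_
    rw [← map_derivedSeries_eq hφ n]
    exact (Subgroup.card_map_dvd _ _).trans hm
  refine dvd_trans ?_ h3
  -- `K → K.map q` has central kernel
  let f : ↥K →* ↥(K.map q) := q.subgroupMap K
  have hf : Function.Surjective f := q.subgroupMap_surjective K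
  have hk : f.ker ≤ center ↥K := by
    intro y hy
    rw [MonoidHom.mem_ker] at hy
    have h4 : q y = 1 := congrArg Subtype.val hy
    have h5 : (y : H ⧸ pPrimeCore p H) ∈ X.map π := (QuotientGroup.eq_one_iff _).1 h4
    rw [mem_center_iff]
    intro g
    exact Subtype.ext (hXc _ h5 g)
  have h6 : Nat.card ↥(K.map q) = f.ker.index := by
    rw [Subgroup.index_ker, MonoidHom.range_eq_top.2 hf]
    exact (Nat.card_congr Subgroup.topEquiv.toEquiv).symm
  rw [h6, ← Subgroup.index_eq_card]
  exact Subgroup.index_dvd_of_le hk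

end Comp

/-! ### Groups with small centralizers of involutions -/

section Small

variable {D : Type*} [Group D] [Finite D]

theorem exists_stable (X : Type*) [Group X] [Finite X] : ∃ n, derivedSeries X (n + 1) = derivedSeries X n := by
  by_contra hcon
  push Not at hcon
  have h1 : ∀ n, Nat.card (derivedSeries X (n + 1)) < Nat.card (derivedSeries X n) := by
    intro n
    have h2 : derivedSeries X (n + 1) ≤ derivedSeries X n := derivedSeries_antitone X (Nat.le_succ n)
    by_contra h3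
    exact hcon n (Subgroup.eq_of_le_of_card_ge h2 (not_lt.1 h3))
  have h2 : ∀ n, Nat.card (derivedSeries X n) + n ≤ Nat.card (derivedSeries X 0) := by
    intro n
    induction n with
    | zero => simp only [_root_.derivedSeries_zero, _root_.Subgroup.mem_top, _root_.nonempty_subtype, _root_.exists_const, _root_.Nat.card_subtype_true, _root_.add_zero, _root_.Std.le_refl]
    | succ n ih =>
      have := h1 n
      omega
  have h3 := h2 (Nat.card (derivedSeries X 0) + 1)
  omega

/-- the four-group generated by two commuting involutions -/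
theorem exists_four {a b : D} (ha : a * a = 1) (ha1 : a ≠ 1) (hb : b * b = 1) (hb1 : b ≠ 1) (hab : a ≠ b)
    (hc : a * b = b * a) : ∃ V : Subgroup D, a ∈ V ∧ b ∈ V ∧ Nat.card ↥V = 4 ∧ (∀ v ∈ V, v * v = 1) ∧
      ∀ v ∈ V, v = 1 ∨ v = a ∨ v = b ∨ v = a * b := by
  have hab1 : a * b ≠ 1 := by
    intro h
    apply hab
    calc a = a * (b * b) := by rw [hb, mul_one]
      _ = (a * b) * b := by group
      _ = b := by rw [h, one_mul]
  have haab : a * (a * b) = b := by rw [← mul_assoc, ha, one_mul]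
  have hbab : b * (a * b) = a := by rw [hc, ← mul_assoc, hb, one_mul]
  have haba : a * b * a = b := by rw [hc, mul_assoc, ha, mul_one]
  have habb : a * b * b = a := by rw [mul_assoc, hb, mul_one]
  have habab : a * b * (a * b) = 1 := by rw [← mul_assoc, haba, hb]
  let V : Subgroup D :=
    { carrier := {1, a, b, a * b}
      one_mem' := by simp
      mul_mem' := by
        intro x y hx hy
        simp only [Set.mem_insert_iff, Set.mem_singleton_iff] at hx hy ⊢
        rcases hx with rfl | rfl | rfl | rfl <;> rcases hy with rfl | rfl | rfl | rfl <;>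
          simp only [ha, hb, haab, hbab, haba, habb, habab, ← hc, _root_.mul_one, _root_.true_or, _root_.one_mul, _root_.left_eq_mul, _root_.or_true, _root_.right_eq_mul, _root_.mul_eq_left, _root_.mul_eq_right]
      inv_mem' := by
        intro x hx
        simp only [Set.mem_insert_iff, Set.mem_singleton_iff] at hx ⊢
        rcases hx with rfl | rfl | rfl | rfl
        · simp
        · rw [inv_eq_of_mul_eq_one_right ha]; simp
        · rw [inv_eq_of_mul_eq_one_right hb]; simp
        · rw [inv_eq_of_mul_eq_one_right habab]; simp }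
  have hV : ∀ v, v ∈ V ↔ v = 1 ∨ v = a ∨ v = b ∨ v = a * b := fun v => by
    change v ∈ ({1, a, b, a * b} : Set D) ↔ _
    simp only [Set.mem_insert_iff, Set.mem_singleton_iff]
  refine ⟨V, (hV a).2 (by simp), (hV b).2 (by simp), ?_, ?_, fun v hv => (hV v).1 hv⟩
  · change Nat.card ↥({1, a, b, a * b} : Set D) = 4
    rw [Nat.card_coe_set_eq, Set.ncard_insert_of_notMem, Set.ncard_insert_of_notMem, Set.ncard_pair]
    · intro h
      apply ha1
      calc a = a * b * b := habb.symm
        _ = b * b := by rw [← h]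
        _ = 1 := hb
    · simp only [Set.mem_insert_iff, Set.mem_singleton_iff, not_or]
      refine ⟨hab, fun h => hb1 ?_⟩
      calc b = a * (a * b) := haab.symm
        _ = a * a := by rw [← h]
        _ = 1 := ha
    · simp only [Set.mem_insert_iff, Set.mem_singleton_iff, not_or]
      exact ⟨ha1.symm, hb1.symm, hab1.symm⟩
  · intro v hv
    rcases (hV v).1 hv with rfl | rfl | rfl | rfl
    · simp
    · exact ha
    · exact hb
    · exact habab

theorem card_subgroup_centralizer (P : Subgroup D) (t : ↥P) :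
    Nat.card ↥(centralizer ({t} : Set ↥P)) ∣ Nat.card ↥(centralizer ({(t : D)} : Set D)) := by
  rw [← Subgroup.card_map_of_injective P.subtype_injective (K := centralizer ({t} : Set ↥P))]
  apply Subgroup.card_dvd_of_le
  rintro _ ⟨g, hg, rfl⟩
  rw [SetLike.mem_coe, mem_centralizer_singleton_iff] at hg
  rw [mem_centralizer_singleton_iff]
  exact congrArg Subtype.val hg

theorem isSolvable_of_card_dvd_eight {G : Type*} [Group G] (h : Nat.card G ∣ 8) : Group.IsSolvable G := by
  obtain ⟨k, -, hk⟩ := (Nat.dvd_prime_pow Nat.prime_two).1 (show Nat.card G ∣ 2 ^ 3 by simpa using h)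
  have : Finite G := Nat.finite_of_card_ne_zero (by rw [hk]; positivity)
  have : Fact (Nat.Prime 2) := ⟨Nat.prime_two⟩
  have h2 : IsPGroup 2 G := IsPGroup.of_card hk
  have := h2.isNilpotent
  infer_instance

/-- if all centralizers of involutions have order dividing 4, `D` is solvable or has order dividing 60 -/
theorem card_dvd_sixty (h : ∀ t : D, t * t = 1 → t ≠ 1 → Nat.card ↥(centralizer ({t} : Set D)) ∣ 8)
    (h8 : ¬ 8 ∣ Nat.card D) : Group.IsSolvable D ∨ Nat.card D ∣ 60 := by
  by_cases hs : Group.IsSolvable D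
  · exact Or.inl hs
  right
  have h0 : ¬ ∀ t s : D, t * t = 1 → t ≠ 1 → s * s = 1 → s ≠ 1 → s * t = t * s → s = t := fun h1 =>
    hs (isSolvable_of_two_rank_one h1 fun t ht ht1 => isSolvable_of_card_dvd_eight (h t ht ht1))
  push Not at h0
  obtain ⟨a, b, ha, ha1, hb, hb1, hba, hne⟩ := h0
  obtain ⟨V, haV, hbV, hV4, hVs, hVe⟩ := exists_four ha ha1 hb hb1 (Ne.symm hne) hba.symm
  have hH : J2Type.FourSelfCent.Hyp V := by
    refine ⟨hV4, hVs, ?_⟩
    intro v hv hv1 x hx
    have hle : V ≤ centralizer ({v} : Set D) := by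
      intro w hw
      rw [mem_centralizer_singleton_iff]
      have h1 := hVs _ (V.mul_mem hv hw)
      have h2 : v * w = (v * w)⁻¹ := eq_inv_of_mul_eq_one_left h1
      rw [h2, mul_inv_rev, inv_eq_of_mul_eq_one_right (hVs v hv), inv_eq_of_mul_eq_one_right (hVs w hw)]
    have h1 : Nat.card ↥(centralizer ({v} : Set D)) ∣ 8 := h v (hVs v hv) hv1
    have h2 : Nat.card ↥(centralizer ({v} : Set D)) ≤ 4 := by
      have h3 : Nat.card ↥(centralizer ({v} : Set D)) ≠ 8 := by
        intro h4
        apply h8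
        rw [← h4]
        exact Subgroup.card_subgroup_dvd_card _
      obtain ⟨k, hk, hk'⟩ := (Nat.dvd_prime_pow Nat.prime_two).1 (show _ ∣ 2 ^ 3 by simpa only [_root_.Nat.reducePow] using h1)
      rw [hk'] at h3 ⊢
      have h5 : k ≠ 3 := fun h => h3 (by rw [h]; norm_num)
      have h6 : k ≤ 2 := by omega
      calc 2 ^ k ≤ 2 ^ 2 := Nat.pow_le_pow_right (by norm_num) h6
        _ = 4 := by norm_num
    have h3 : V = centralizer ({v} : Set D) := Subgroup.eq_of_le_of_card_ge hle (by rw [hV4]; exact h2)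
    rw [h3, mem_centralizer_singleton_iff]
    exact hx
  rcases hH.card_cases with h1 | h1 | h1 <;> rw [h1] <;> norm_num

theorem quaternion_unique : ∀ x y : QuaternionGroup 2, x * x = 1 → x ≠ 1 → y * y = 1 → y ≠ 1 → x = y := by
  decide

/-- centralizers of involutions of order dividing 8, nonabelian if of order 8 -/
theorem exists_derived_card (h : ∀ t : D, t * t = 1 → t ≠ 1 → Nat.card ↥(centralizer ({t} : Set D)) ∣ 8)
    (hna : ∀ t : D, t * t = 1 → t ≠ 1 → Nat.card ↥(centralizer ({t} : Set D)) = 8 →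
      ¬ IsMulCommutative ↥(centralizer ({t} : Set D))) :
    ∃ n, Nat.card ↥(derivedSeries D n) ∣ 60 ∨ Nat.card ↥(derivedSeries D n) ∣ 168 ∨
      Nat.card ↥(derivedSeries D n) ∣ 360 := by
  have : Fact (Nat.Prime 2) := ⟨Nat.prime_two⟩
  obtain ⟨n, hn⟩ := exists_stable D
  refine ⟨n, ?_⟩
  set P := derivedSeries D n with hP
  have hPP : ⁅P, P⁆ = P := by rw [hP]; exact hn
  have hperf : _root_.commutator ↥P = ⊤ := by
    apply Subgroup.map_injective P.subtype_injective
    rw [map_subtype_commutator, hPP, ← MonoidHom.range_eq_map, range_subtype]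
  have hcen : ∀ t : ↥P, t * t = 1 → t ≠ 1 → Nat.card ↥(centralizer ({t} : Set ↥P)) ∣ 8 := fun t ht ht1 =>
    (card_subgroup_centralizer P t).trans (h t (congrArg Subtype.val ht) fun h1 => ht1 (Subtype.ext h1))
  by_cases hsol : Group.IsSolvable ↥P
  · left
    -- a perfect solvable group is trivial
    have h1 : Nat.card ↥P = 1 := by
      by_contra hne
      have : Nontrivial ↥P := by
        rw [Subgroup.nontrivial_iff_ne_bot]
        intro h2
        rw [h2, Subgroup.card_bot] at hne
        exact hne rfl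
      exact (Group.IsSolvable.commutator_lt_top_of_nontrivial ↥P).ne hperf
    rw [h1]
    exact one_dvd _
  by_cases h8 : 8 ∣ Nat.card ↥P
  · have h0 : ¬ ∀ t s : ↥P, t * t = 1 → t ≠ 1 → s * s = 1 → s ≠ 1 → s * t = t * s → s = t := fun h1 =>
      hsol (isSolvable_of_two_rank_one h1 fun t ht ht1 => isSolvable_of_card_dvd_eight (hcen t ht ht1))
    push Not at h0
    obtain ⟨a, b, ha, ha1, hb, hb1, hba, hne⟩ := h0
    obtain ⟨V, haV, hbV, hV4, hVs, hVe⟩ := exists_four ha ha1 hb hb1 (Ne.symm hne) hba.symm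
    obtain ⟨S, hVS⟩ := (IsPGroup.of_card (n := 2) (by rw [hV4]; norm_num) : IsPGroup 2 ↥V).exists_le_sylow
    have hS1 : Nontrivial ↥(S : Subgroup ↥P) := by
      refine ⟨⟨a, hVS haV⟩, 1, fun h1 => ha1 (congrArg Subtype.val h1)⟩
    have hZ := S.2.center_nontrivial
    obtain ⟨⟨z, hzZ⟩, hz2⟩ : ∃ z : ↥(center ↥(S : Subgroup ↥P)), orderOf z = 2 :=
      exists_prime_orderOf_dvd_card' 2 (by
        obtain ⟨k, hk⟩ := IsPGroup.iff_card.1 (S.2.to_subgroup (center ↥(S : Subgroup ↥P)))
        rw [hk]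
        apply dvd_pow_self
        rintro rfl
        rw [pow_zero] at hk
        have := Subgroup.card_eq_one.1 hk
        exact (Subgroup.nontrivial_iff_ne_bot _).1 hZ this)
    have hzo : orderOf ((z : ↥P)) = 2 := by
      rw [Subgroup.orderOf_coe, ← Subgroup.orderOf_mk z hzZ, hz2]
    have hzz : (z : ↥P) * z = 1 := by
      have := pow_orderOf_eq_one (z : ↥P)
      rwa [hzo, pow_two] at this
    have hz1 : (z : ↥P) ≠ 1 := by
      intro h1
      rw [h1, orderOf_one] at hzo
      norm_num at hzo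
    have hSle : (S : Subgroup ↥P) ≤ centralizer ({(z : ↥P)} : Set ↥P) := by
      intro s hs
      rw [mem_centralizer_singleton_iff]
      exact congrArg Subtype.val (mem_center_iff.1 hzZ ⟨s, hs⟩)
    have h8S : 8 ∣ Nat.card ↥(S : Subgroup ↥P) := by
      have h1 : 2 ^ 3 ∣ Nat.card ↥P := by simpa only [_root_.Nat.reducePow] using h8
      have := S.pow_dvd_card_of_pow_dvd_card h1
      simpa only [_root_.Nat.reducePow] using this
    have hc8 : Nat.card ↥(centralizer ({(z : ↥P)} : Set ↥P)) = 8 :=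
      Nat.dvd_antisymm (hcen _ hzz hz1) (h8S.trans (Subgroup.card_dvd_of_le hSle))
    have hSc : (S : Subgroup ↥P) = centralizer ({(z : ↥P)} : Set ↥P) :=
      Subgroup.eq_of_le_of_card_ge hSle (by rw [hc8]; exact Nat.le_of_dvd Nat.card_pos h8S)
    have hzD : ((z : ↥P) : D) * ((z : ↥P) : D) = 1 := congrArg Subtype.val hzz
    have hzD1 : ((z : ↥P) : D) ≠ 1 := fun h1 => hz1 (Subtype.ext h1)
    have hcD : Nat.card ↥(centralizer ({((z : ↥P) : D)} : Set D)) = 8 :=
      Nat.dvd_antisymm (h _ hzD hzD1) (by rw [← hc8]; exact card_subgroup_centralizer P z)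
    have hmap : (centralizer ({(z : ↥P)} : Set ↥P)).map P.subtype = centralizer ({((z : ↥P) : D)} : Set D) := by
      apply Subgroup.eq_of_le_of_card_ge
      · rintro _ ⟨g, hg, rfl⟩
        rw [SetLike.mem_coe, mem_centralizer_singleton_iff] at hg
        rw [mem_centralizer_singleton_iff]
        exact congrArg Subtype.val hg
      · rw [Subgroup.card_map_of_injective P.subtype_injective, hc8, hcD]
    have hncD := hna _ hzD hzD1 hcD
    have hnc : ¬ IsMulCommutative ↥(centralizer ({(z : ↥P)} : Set ↥P)) := by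
      intro hc
      apply hncD
      refine ⟨⟨?_⟩⟩
      rintro ⟨x, hx⟩ ⟨y, hy⟩
      obtain ⟨x', hx', hxx⟩ : x ∈ (centralizer ({(z : ↥P)} : Set ↥P)).map P.subtype := by rw [hmap]; exact hx
      obtain ⟨y', hy', hyy⟩ : y ∈ (centralizer ({(z : ↥P)} : Set ↥P)).map P.subtype := by rw [hmap]; exact hy
      have h1 := hc.is_comm.comm ⟨x', hx'⟩ ⟨y', hy'⟩
      have h2 : x' * y' = y' * x' := congrArg Subtype.val h1
      apply Subtype.ext
      change x * y = y * x
      rw [← hxx, ← hyy, ← map_mul, h2, map_mul]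
    rcases SmallSimple.OrderEight.dihedral_or_quaternion_of_card_eight hc8 hnc with ⟨⟨e⟩⟩ | ⟨⟨e⟩⟩
    · rcases S0848.result hperf (z : ↥P) hzo e with h1 | h1
      · right; left; rw [h1]
      · right; right; rw [h1]
    · exfalso
      have ha' : a ∈ centralizer ({(z : ↥P)} : Set ↥P) := hSle (hVS haV)
      have hb' : b ∈ centralizer ({(z : ↥P)} : Set ↥P) := hSle (hVS hbV)
      have h1 := quaternion_unique (e ⟨a, ha'⟩) (e ⟨b, hb'⟩)
        (by rw [← map_mul, show (⟨a, ha'⟩ : ↥(centralizer ({(z : ↥P)} : Set ↥P))) * ⟨a, ha'⟩ = 1 from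
          Subtype.ext ha, map_one])
        (fun h2 => ha1 (congrArg Subtype.val ((map_eq_one_iff e e.injective).1 h2)))
        (by rw [← map_mul, show (⟨b, hb'⟩ : ↥(centralizer ({(z : ↥P)} : Set ↥P))) * ⟨b, hb'⟩ = 1 from
          Subtype.ext hb, map_one])
        (fun h2 => hb1 (congrArg Subtype.val ((map_eq_one_iff e e.injective).1 h2)))
      exact hne (congrArg Subtype.val (e.injective h1)).symm
  · left
    rcases card_dvd_sixty hcen h8 with h1 | h1
    · exact absurd h1 hsol
    · exact h1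

end Small

/-! ### The main lemma -/

section Main

universe u
variable {K : Type u} [Group K] [Finite K] {p : ℕ}

/-- in a group with a commuting pair of involutions no involution `t` is the only one of `C(t)` -/
theorem not_unique {H : Type*} [Group H] [Finite H] {a b : H} (ha : a * a = 1) (ha1 : a ≠ 1) (hb : b * b = 1)
    (hb1 : b ≠ 1) (hab : a ≠ b) (hc : a * b = b * a) {t : H} (ht : t * t = 1) (ht1 : t ≠ 1) :
    ∃ s : H, s * s = 1 ∧ s ≠ 1 ∧ s * t = t * s ∧ s ≠ t := by
  have : Fact (Nat.Prime 2) := ⟨Nat.prime_two⟩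
  by_contra hcon
  push Not at hcon
  obtain ⟨V, haV, hbV, hV4, hVs, hVe⟩ := exists_four ha ha1 hb hb1 hab hc
  obtain ⟨S, hVS⟩ := (IsPGroup.of_card (n := 2) (by rw [hV4]; norm_num) : IsPGroup 2 ↥V).exists_le_sylow
  -- a Sylow subgroup containing `t`
  have ht2 : orderOf t = 2 := orderOf_eq_prime (by rw [pow_two]; exact ht) ht1
  obtain ⟨T, hT⟩ := (IsPGroup.of_card (n := 1) (by rw [Nat.card_zpowers, ht2]; norm_num) :
    IsPGroup 2 ↥(zpowers t)).exists_le_sylow
  obtain ⟨g, hg⟩ := MulAction.exists_smul_eq H T S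
  have hmem : ∀ y ∈ T, g * y * g⁻¹ ∈ S := by
    intro y hy
    rw [← hg, Sylow.smul_def]
    exact Subgroup.smul_mem_pointwise_smul y (MulAut.conj g) (T : Subgroup H) hy
  set t' := g * t * g⁻¹ with ht'
  have ht'S : t' ∈ S := hmem t (hT (mem_zpowers t))
  -- all involutions commuting with `t'` are `t'`
  have key : ∀ s : H, s * s = 1 → s ≠ 1 → s * t' = t' * s → s = t' := by
    intro s hs hs1 hst
    have h1 := hcon (g⁻¹ * s * g) (by
      calc g⁻¹ * s * g * (g⁻¹ * s * g) = g⁻¹ * (s * s) * g := by group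
        _ = 1 := by rw [hs]; group) (by
      intro h
      apply hs1
      calc s = g * (g⁻¹ * s * g) * g⁻¹ := by group
        _ = 1 := by rw [h]; group) (by
      calc g⁻¹ * s * g * t = g⁻¹ * (s * t') * g := by rw [ht']; group
        _ = g⁻¹ * (t' * s) * g := by rw [hst]
        _ = t * (g⁻¹ * s * g) := by rw [ht']; group)
    calc s = g * (g⁻¹ * s * g) * g⁻¹ := by group
      _ = t' := by rw [h1]
  have hS1 : Nontrivial ↥(S : Subgroup H) := ⟨⟨a, hVS haV⟩, 1, fun h1 => ha1 (congrArg Subtype.val h1)⟩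
  have hZ := S.2.center_nontrivial
  obtain ⟨⟨z, hzZ⟩, hz2⟩ : ∃ z : ↥(center ↥(S : Subgroup H)), orderOf z = 2 :=
    exists_prime_orderOf_dvd_card' 2 (by
      obtain ⟨k, hk⟩ := IsPGroup.iff_card.1 (S.2.to_subgroup (center ↥(S : Subgroup H)))
      rw [hk]
      apply dvd_pow_self
      rintro rfl
      rw [pow_zero] at hk
      have := Subgroup.card_eq_one.1 hk
      exact (Subgroup.nontrivial_iff_ne_bot _).1 hZ this)
  have hzo : orderOf ((z : H)) = 2 := by
    rw [Subgroup.orderOf_coe, ← Subgroup.orderOf_mk z hzZ, hz2]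
  have hzz : (z : H) * z = 1 := by
    have := pow_orderOf_eq_one (z : H)
    rwa [hzo, pow_two] at this
  have hz1 : (z : H) ≠ 1 := by
    intro h1
    rw [h1, orderOf_one] at hzo
    norm_num at hzo
  have hzc : ∀ s ∈ S, s * (z : H) = z * s := fun s hs =>
    congrArg Subtype.val (mem_center_iff.1 hzZ ⟨s, hs⟩)
  have hzt : (z : H) = t' := key _ hzz hz1 (hzc _ ht'S).symm
  have h1 := key a ha ha1 (by rw [← hzt]; exact hzc a (hVS haV))
  have h2 := key b hb hb1 (by rw [← hzt]; exact hzc b (hVS hbV))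
  exact hab (h1.trans h2.symm)

/-- if all the centralizers of involutions have order dividing 4, the group is solvable or has order dividing 60 -/
theorem card_dvd_sixty' {D : Type*} [Group D] [Finite D]
    (h : ∀ t : D, t * t = 1 → t ≠ 1 → Nat.card ↥(centralizer ({t} : Set D)) ∣ 4) :
    Group.IsSolvable D ∨ Nat.card D ∣ 60 := by
  have : Fact (Nat.Prime 2) := ⟨Nat.prime_two⟩
  apply card_dvd_sixty
  · exact fun t ht ht1 => (h t ht ht1).trans (by norm_num)
  · intro h8
    obtain ⟨S⟩ : Nonempty (Sylow 2 D) := inferInstance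
    have h8S : 2 ^ 3 ∣ Nat.card ↥(S : Subgroup D) :=
      S.pow_dvd_card_of_pow_dvd_card (by simpa only [_root_.Nat.reducePow] using h8)
    have hS1 : Nontrivial ↥(S : Subgroup D) := by
      rw [← Finite.one_lt_card_iff_nontrivial]
      exact lt_of_lt_of_le (by norm_num) (Nat.le_of_dvd Nat.card_pos h8S)
    have hZ := S.2.center_nontrivial
    obtain ⟨⟨z, hzZ⟩, hz2⟩ : ∃ z : ↥(center ↥(S : Subgroup D)), orderOf z = 2 :=
      exists_prime_orderOf_dvd_card' 2 (by
        obtain ⟨k, hk⟩ := IsPGroup.iff_card.1 (S.2.to_subgroup (center ↥(S : Subgroup D)))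
        rw [hk]
        apply dvd_pow_self
        rintro rfl
        rw [pow_zero] at hk
        have := Subgroup.card_eq_one.1 hk
        exact (Subgroup.nontrivial_iff_ne_bot _).1 hZ this)
    have hzo : orderOf ((z : D)) = 2 := by
      rw [Subgroup.orderOf_coe, ← Subgroup.orderOf_mk z hzZ, hz2]
    have hzz : (z : D) * z = 1 := by
      have := pow_orderOf_eq_one (z : D)
      rwa [hzo, pow_two] at this
    have hz1 : (z : D) ≠ 1 := by
      intro h1
      rw [h1, orderOf_one] at hzo
      norm_num at hzo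
    have hSle : (S : Subgroup D) ≤ centralizer ({(z : D)} : Set D) := by
      intro s hs
      rw [mem_centralizer_singleton_iff]
      exact congrArg Subtype.val (mem_center_iff.1 hzZ ⟨s, hs⟩)
    have h1 : 2 ^ 3 ∣ 4 := h8S.trans ((Subgroup.card_dvd_of_le hSle).trans (h _ hzz hz1))
    norm_num at h1

/-- `C(t) ∩ C(x)` -/
def DD (x t : K) : Subgroup K := centralizer ({t} : Set K) ⊓ centralizer ({x} : Set K)

omit [Finite K] in
theorem mem_DD {x t s : K} : s ∈ DD x t ↔ s * t = t * s ∧ s * x = x * s := by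
  unfold DD
  rw [mem_inf, mem_centralizer_singleton_iff, mem_centralizer_singleton_iff]

/-- `C(t) ∩ C(x)` as the centralizer of `t` in `C(x)` -/
def equivDD (x : K) (t : ↥(centralizer ({x} : Set K))) :
    ↥(centralizer ({t} : Set ↥(centralizer ({x} : Set K)))) ≃* ↥(DD x (t : K)) where
  toFun g := ⟨(g : ↥(centralizer ({x} : Set K))), mem_DD.2
    ⟨congrArg Subtype.val (mem_centralizer_singleton_iff.1 g.2), mem_centralizer_singleton_iff.1 g.1.2⟩⟩
  invFun g := ⟨⟨g, mem_centralizer_singleton_iff.2 (mem_DD.1 g.2).2⟩,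
    mem_centralizer_singleton_iff.2 (Subtype.ext (mem_DD.1 g.2).1)⟩
  left_inv _ := rfl
  right_inv _ := rfl
  map_mul' _ _ := rfl

/-- a group of order dividing `8p` with a central subgroup of order `p` is solvable -/
theorem isSolvable_of_central {G : Type*} [Group G] (X : Subgroup G) [X.Normal] (hX : X ≤ center G)
    (h : Nat.card (G ⧸ X) ∣ 8) : Group.IsSolvable G := by
  rw [Group.isSolvable_iff_subgroup_quotient X]
  exact ⟨Group.isSolvable_of_comm fun a b => Subtype.ext (mem_center_iff.1 (hX b.2) a),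
    isSolvable_of_card_dvd_eight h⟩

/-- `C(t) / ⟨x⟩` is not commutative if `C(t)` is not -/
theorem not_comm_quot_of {G : Type*} [Group G] [Finite G] {x : G} (hx : Odd (orderOf x)) (hxc : x ∈ center G)
    (X : Subgroup G) [X.Normal] (hX : X = zpowers x) (h8 : Nat.card (G ⧸ X) = 8)
    (hna : ¬ IsMulCommutative G) : ¬ IsMulCommutative (G ⧸ X) := by
  intro hc
  apply hna
  refine ⟨⟨fun a b => ?_⟩⟩
  have hXc : ∀ y ∈ X, ∀ g, g * y = y * g := by
    intro y hy g
    rw [hX] at hy
    exact mem_center_iff.1 ((zpowers_le.2 hxc) hy) g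
  have hcm : ∀ g k : G, g * k * g⁻¹ * k⁻¹ ∈ X := by
    intro g k
    rw [← QuotientGroup.eq_one_iff]
    have h1 : ((g : G ⧸ X)) * k = k * g := hc.is_comm.comm _ _
    have h2 : ((g * k * g⁻¹ * k⁻¹ : G) : G ⧸ X) = (g : G ⧸ X) * k * (g : G ⧸ X)⁻¹ * (k : G ⧸ X)⁻¹ := rfl
    rw [h2, h1]
    group
  -- `[a^n, b] = [a, b]^n`
  set c := a * b * a⁻¹ * b⁻¹ with hcdef
  have hcX : c ∈ X := hcm a b
  have hab : a * b = c * (b * a) := by rw [hcdef]; group
  have hpow : ∀ n : ℕ, a ^ n * b = c ^ n * (b * a ^ n) := by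
    intro n
    induction n with
    | zero => simp
    | succ n ih =>
      calc a ^ (n + 1) * b = a ^ n * (a * b) := by rw [pow_succ, mul_assoc]
        _ = a ^ n * (c * (b * a)) := by rw [hab]
        _ = c * (a ^ n * b) * a := by
            rw [← mul_assoc, hXc c hcX]; group
        _ = c * (c ^ n * (b * a ^ n)) * a := by rw [ih]
        _ = c ^ (n + 1) * (b * a ^ (n + 1)) := by rw [pow_succ' c, pow_succ a]; group
  have ha8 : a ^ 8 ∈ X := by
    rw [← QuotientGroup.eq_one_iff]
    have h1 : ((a ^ 8 : G) : G ⧸ X) = (a : G ⧸ X) ^ 8 := rfl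
    rw [h1, ← h8, pow_card_eq_one']
  have hc8 : c ^ 8 = 1 := by
    have h1 := hpow 8
    rw [← hXc _ ha8 b] at h1
    have h2 : c ^ 8 * (b * a ^ 8) = 1 * (b * a ^ 8) := by rw [← h1, one_mul]
    exact mul_right_cancel h2
  have h1 : orderOf c ∣ 8 := orderOf_dvd_of_pow_eq_one hc8
  have h2 : orderOf c ∣ orderOf x := by
    rw [hX] at hcX
    exact orderOf_dvd_of_mem_zpowers hcX
  have h3 : Nat.Coprime 8 (orderOf x) := by
    have : Nat.Coprime (2 ^ 3) (orderOf x) := Nat.Coprime.pow_left 3 (Nat.coprime_two_left.2 hx)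
    simpa using this
  have h4 : orderOf c = 1 := Nat.eq_one_of_dvd_coprimes h3 h1 h2
  rw [orderOf_eq_one_iff] at h4
  rw [hab, h4, one_mul]

theorem pslChar_seven {G : Type*} [Group G] (h : Nonempty (G ≃* Matrix.ProjectiveSpecialLinearGroup (Fin 2) (ZMod 7)))
    : IsPSLChar 7 G := by
  have : Fact (Nat.Prime 7) := ⟨by norm_num⟩
  exact ⟨ZMod 7, inferInstance, inferInstance, inferInstance, 2, le_rfl, fun _ => by rw [ZMod.card]; norm_num, h⟩

/-- **Main lemma.** -/
theorem main (hp : p.Prime) (hp5 : 5 ≤ p) {x : K} (hx : orderOf x = p)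
    (h : ∀ t : K, t * t = 1 → t ≠ 1 → t * x = x * t →
      (Group.IsSolvable ↥(DD x t) ∧ ∀ s ∈ DD x t, s * s = 1 → s ≠ 1 → s = t) ∨ Nat.card ↥(DD x t) ∣ 4 * p ∨
      (p = 7 ∧ Nat.card ↥(DD x t) ∣ 8 * p ∧ (Nat.card ↥(DD x t) = 8 * p → ¬ IsMulCommutative ↥(DD x t)))) :
    LThree.Comps p ↥(centralizer ({x} : Set K)) := by
  have : Fact p.Prime := ⟨hp⟩
  have hodd : Odd p := hp.odd_of_ne_two (by omega)
  set H := ↥(centralizer ({x} : Set K)) with hH
  by_cases hsol : Group.IsSolvable H
  · exact LThree.Comps.of_solvable hsol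
  let xH : H := ⟨x, mem_centralizer_singleton_iff.2 rfl⟩
  have hxc : xH ∈ center H := by
    rw [mem_center_iff]
    intro g
    exact Subtype.ext (mem_centralizer_singleton_iff.1 g.2)
  have hxo : orderOf xH = p := by rw [← Subgroup.orderOf_coe]; exact hx
  let X : Subgroup H := zpowers xH
  have hXc : X ≤ center H := zpowers_le.2 hxc
  have hXn : X.Normal := ⟨fun y hy g => by
    rw [mem_center_iff.1 (hXc hy) g, mul_inv_cancel_right]; exact hy⟩
  have hXcard : Nat.card ↥X = p := by rw [Nat.card_zpowers, hxo]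
  have hXodd : Odd (Nat.card ↥X) := by rw [hXcard]; exact hodd
  -- `|C_H(t)| = p |C_{H/X}(t)|`
  have hcd : ∀ t : H, t * t = 1 → t ≠ 1 →
      Nat.card ↥(centralizer ({(QuotientGroup.mk' X t)} : Set (H ⧸ X))) * p =
        Nat.card ↥(centralizer ({t} : Set H)) ∧
      (Nat.card ↥(centralizer ({t} : Set H)) = 8 * p → ¬ IsMulCommutative ↥(centralizer ({t} : Set H)) →
        ¬ IsMulCommutative ↥(centralizer ({(QuotientGroup.mk' X t)} : Set (H ⧸ X)))) := by
    intro t ht ht1
    have ht2 : orderOf t = 2 := orderOf_eq_prime (by rw [pow_two]; exact ht) ht1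
    have h1 := LThree.Red.centralizer_mk Nat.prime_two X (Nat.coprime_two_right.2 hXodd) ht2
    have hXle : X ≤ centralizer ({t} : Set H) := by
      intro y hy
      rw [mem_centralizer_singleton_iff]
      exact (mem_center_iff.1 (hXc hy) t).symm
    let C := centralizer ({t} : Set H)
    let X' : Subgroup ↥C := X.subgroupOf C
    have hX'n : X'.Normal := inferInstance
    have hcX' : Nat.card ↥X' = p := by
      rw [← hXcard]
      exact Nat.card_congr (Subgroup.subgroupOfEquivOfLe hXle).toEquiv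
    -- `C / X' ≃ C.map mk'`
    let f : ↥C →* ↥(C.map (QuotientGroup.mk' X)) := (QuotientGroup.mk' X).subgroupMap C
    have hf : Function.Surjective f := (QuotientGroup.mk' X).subgroupMap_surjective C
    have hfk : f.ker = X' := by
      ext y
      rw [MonoidHom.mem_ker]
      constructor
      · intro hy
        have h2 : (QuotientGroup.mk' X) (y : H) = 1 := congrArg Subtype.val hy
        exact mem_subgroupOf.2 ((QuotientGroup.eq_one_iff (y : H)).1 h2)
      · intro hy
        exact Subtype.ext ((QuotientGroup.eq_one_iff (y : H)).2 (mem_subgroupOf.1 hy))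
    let e : ↥C ⧸ X' ≃* ↥(C.map (QuotientGroup.mk' X)) :=
      (QuotientGroup.quotientMulEquivOfEq hfk.symm).trans (QuotientGroup.quotientKerEquivOfSurjective f hf)
    have h3 : Nat.card ↥(C.map (QuotientGroup.mk' X)) * p = Nat.card ↥C := by
      rw [← Nat.card_congr e.toEquiv, ← hcX']
      exact (Subgroup.card_eq_card_quotient_mul_card_subgroup X').symm
    rw [h1]
    refine ⟨h3, fun h8 hnc => ?_⟩
    have hxC : xH ∈ C := hXle (mem_zpowers _)
    have h4 : ¬ IsMulCommutative (↥C ⧸ X') := by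
      refine not_comm_quot_of (x := (⟨xH, hxC⟩ : ↥C)) ?_ ?_ X' ?_ ?_ hnc
      · rw [Subgroup.orderOf_mk, hxo]; exact hodd
      · rw [mem_center_iff]
        intro g
        exact Subtype.ext (mem_center_iff.1 hxc g)
      · ext y
        constructor
        · intro hy
          obtain ⟨k, hk⟩ := mem_zpowers_iff.1 (show (y : H) ∈ zpowers xH from hy)
          exact mem_zpowers_iff.2 ⟨k, Subtype.ext hk⟩
        · intro hy
          obtain ⟨k, hk⟩ := mem_zpowers_iff.1 hy
          exact mem_zpowers_iff.2 ⟨k, congrArg Subtype.val hk⟩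
      · have h5 : Nat.card (↥C ⧸ X') * p = 8 * p := by
          rw [Nat.card_congr e.toEquiv, h3, h8]
        exact Nat.eq_of_mul_eq_mul_right hp.pos h5
    intro hc
    apply h4
    refine ⟨⟨fun a b => e.injective ?_⟩⟩
    rw [map_mul, map_mul]
    exact hc.is_comm.comm _ _
  -- the hypothesis for `H`
  have hpt : ∀ t : H, t * t = 1 → t ≠ 1 →
      (Group.IsSolvable ↥(centralizer ({t} : Set H)) ∧ ∀ s : H, s * s = 1 → s ≠ 1 → s * t = t * s → s = t) ∨
      Nat.card ↥(centralizer ({t} : Set H)) ∣ 4 * p ∨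
      (p = 7 ∧ Nat.card ↥(centralizer ({t} : Set H)) ∣ 8 * p ∧ (Nat.card ↥(centralizer ({t} : Set H)) = 8 * p →
        ¬ IsMulCommutative ↥(centralizer ({t} : Set H)))) := by
    intro t ht ht1
    have h1 := h (t : K) (congrArg Subtype.val ht) (fun h2 => ht1 (Subtype.ext h2))
      (mem_centralizer_singleton_iff.1 t.2)
    have h2 := Nat.card_congr (equivDD x t).toEquiv
    rcases h1 with ⟨h3, h4⟩ | h3 | ⟨h3, h4, h5⟩
    · left
      refine ⟨?_, ?_⟩
      · exact Group.isSolvable_of_isSolvable_injective (f := (equivDD x t).toMonoidHom) (equivDD x t).injective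
      · intro s hs hs1 hst
        exact Subtype.ext (h4 (s : K) (mem_DD.2 ⟨congrArg Subtype.val hst, mem_centralizer_singleton_iff.1 s.2⟩)
          (congrArg Subtype.val hs) (fun h6 => hs1 (Subtype.ext h6)))
    · right; left
      rw [h2]; exact h3
    · right; right
      rw [h2]
      refine ⟨h3, h4, fun h6 hc => h5 h6 ⟨⟨fun a b => ?_⟩⟩⟩
      apply (equivDD x t).symm.injective
      rw [map_mul, map_mul]
      exact hc.is_comm.comm _ _
  have hdiv : ∀ t : H, t * t = 1 → t ≠ 1 → Nat.card ↥(centralizer ({t} : Set H)) ∣ 8 * p →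
      Group.IsSolvable ↥(centralizer ({t} : Set H)) := by
    intro t ht ht1 hd
    have hXle : X ≤ centralizer ({t} : Set H) := by
      intro y hy
      rw [mem_centralizer_singleton_iff]
      exact (mem_center_iff.1 (hXc hy) t).symm
    have hcX' : Nat.card ↥(X.subgroupOf (centralizer ({t} : Set H))) = p := by
      rw [← hXcard]
      exact Nat.card_congr (Subgroup.subgroupOfEquivOfLe hXle).toEquiv
    refine isSolvable_of_central (X.subgroupOf (centralizer ({t} : Set H))) ?_ ?_
    · intro y hy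
      rw [mem_center_iff]
      intro g
      exact Subtype.ext (mem_center_iff.1 (hXc (mem_subgroupOf.1 hy)) g)
    · have h1 := Subgroup.card_eq_card_quotient_mul_card_subgroup (X.subgroupOf (centralizer ({t} : Set H)))
      rw [hcX'] at h1
      rw [h1] at hd
      exact Nat.dvd_of_mul_dvd_mul_right hp.pos hd
  have hsolv : ∀ t : H, t * t = 1 → t ≠ 1 → Group.IsSolvable ↥(centralizer ({t} : Set H)) := by
    intro t ht ht1
    rcases hpt t ht ht1 with ⟨h1, -⟩ | h1 | ⟨-, h1, -⟩
    · exact h1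
    · exact hdiv t ht ht1 (h1.trans (Nat.mul_dvd_mul_right (by norm_num) p))
    · exact hdiv t ht ht1 h1
  have h0 : ¬ ∀ t s : H, t * t = 1 → t ≠ 1 → s * s = 1 → s ≠ 1 → s * t = t * s → s = t := fun h1 =>
    hsol (isSolvable_of_two_rank_one h1 hsolv)
  push Not at h0
  obtain ⟨a, b, ha, ha1, hb, hb1, hba, hne⟩ := h0
  have hpt' : ∀ t : H, t * t = 1 → t ≠ 1 → Nat.card ↥(centralizer ({t} : Set H)) ∣ 4 * p ∨
      (p = 7 ∧ Nat.card ↥(centralizer ({t} : Set H)) ∣ 8 * p ∧ (Nat.card ↥(centralizer ({t} : Set H)) = 8 * p →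
        ¬ IsMulCommutative ↥(centralizer ({t} : Set H)))) := by
    intro t ht ht1
    rcases hpt t ht ht1 with ⟨-, h1⟩ | h1
    · exfalso
      obtain ⟨s, hs, hs1, hst, hne'⟩ := not_unique ha ha1 hb hb1 (Ne.symm hne) hba.symm ht ht1
      exact hne' (h1 s hs hs1 hst)
    · exact h1
  -- centralizers of involutions of `H / X`
  have hlift : ∀ d : H ⧸ X, d * d = 1 → d ≠ 1 → ∃ t : H, t * t = 1 ∧ t ≠ 1 ∧ QuotientGroup.mk' X t = d := by
    intro d hd hd1
    have hd2 : orderOf d = 2 := orderOf_eq_prime (by rw [pow_two]; exact hd) hd1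
    obtain ⟨t, ht, htd⟩ := LThree.Red.exists_involution_lift X hXodd hd2
    have h1 := pow_orderOf_eq_one t
    rw [ht, pow_two] at h1
    refine ⟨t, h1, ?_, htd⟩
    rintro rfl
    rw [orderOf_one] at ht
    norm_num at ht
  -- the components
  have hfin : ∀ m n : ℕ, Nat.card ↥(derivedSeries (H ⧸ X) n) ∣ m → (m = 60 ∨ (p = 7 ∧ (m = 168 ∨ m = 360))) →
      LThree.Comps p H := by
    intro m n hmn hm M hM
    have hb := Lib.Cores.pPrimeCore_quotient_pPrimeCore (G := H) p
    have h1 := card_comp_dvd xH hxc X rfl m n hmn hM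
    have h2 := dvd_index_center hp hb hM
    have hsimp : IsSimpleGroup (↥M ⧸ center ↥M) := hM.2.2
    have hnc := not_comm_quot hM.2
    have hncyc : ¬ IsCyclic (↥M ⧸ center ↥M) := fun hc => hnc (IsCyclic.isMulCommutative)
    have hsmall : Nat.card (↥M ⧸ center ↥M) ≤ 100 → Nat.card (↥M ⧸ center ↥M) = 60 := fun h3 =>
      S0493.result hncyc h3
    refine ⟨hM.2, LThree.Red.isPGroup_center_comp hp hb hM.1, ?_, ?_⟩
    · have hp' : p ∣ m := h2.trans h1
      rcases hm with rfl | ⟨rfl, rfl | rfl⟩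
      · have hp5' : p = 5 := by
          have h3 : p ∈ Nat.primeFactors 60 := Nat.mem_primeFactors.2 ⟨hp, hp', by norm_num⟩
          have h4 : Nat.primeFactors 60 = {2, 3, 5} := by decide +kernel
          rw [h4] at h3
          simp only [Finset.mem_insert, Finset.mem_singleton] at h3
          omega
        subst hp5'
        have h3 := hsmall ((Nat.le_of_dvd (by norm_num) h1).trans (by norm_num))
        exact Or.inr (Or.inl ⟨5, Or.inl rfl, S0494.result h3⟩)
      · have h3 : Nat.card (↥M ⧸ center ↥M) = 168 := by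
          by_cases h4 : Nat.card (↥M ⧸ center ↥M) ≤ 100
          · have h5 := hsmall h4
            rw [h5] at h1
            norm_num at h1
          · obtain ⟨k, hk⟩ := h1
            have hk1 : k = 1 := by
              have : k ≠ 0 := by rintro rfl; norm_num at hk
              by_contra h5
              have h6 : 2 ≤ k := by omega
              have h7 : 101 * 2 ≤ Nat.card (↥M ⧸ center ↥M) * k := Nat.mul_le_mul (by omega) h6
              omega
            rw [hk1, mul_one] at hk
            exact hk.symm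
        have : Fact (Nat.Prime 7) := ⟨by norm_num⟩
        refine Or.inl (Or.inl (Or.inl ?_))
        exact pslChar_seven (S0495.result h3 (F := ZMod 7) (by rw [ZMod.card]))
      · norm_num at hp'
    · rintro (⟨h3, -⟩ | ⟨h3, -⟩) <;> omega
  by_cases h7 : p = 7
  · have hD8 : ∀ d : H ⧸ X, d * d = 1 → d ≠ 1 → Nat.card ↥(centralizer ({d} : Set (H ⧸ X))) ∣ 8 := by
      intro d hd hd1
      obtain ⟨t, ht, ht1, rfl⟩ := hlift d hd hd1
      have h1 := (hcd t ht ht1).1
      have h2 : Nat.card ↥(centralizer ({t} : Set H)) ∣ 8 * p := by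
        rcases hpt' t ht ht1 with h3 | ⟨-, h3, -⟩
        · exact h3.trans (Nat.mul_dvd_mul_right (by norm_num) p)
        · exact h3
      rw [← h1] at h2
      exact Nat.dvd_of_mul_dvd_mul_right hp.pos h2
    have hD8' : ∀ d : H ⧸ X, d * d = 1 → d ≠ 1 → Nat.card ↥(centralizer ({d} : Set (H ⧸ X))) = 8 →
        ¬ IsMulCommutative ↥(centralizer ({d} : Set (H ⧸ X))) := by
      intro d hd hd1 h8
      obtain ⟨t, ht, ht1, rfl⟩ := hlift d hd hd1
      obtain ⟨h1, h2⟩ := hcd t ht ht1
      rw [h8] at h1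
      refine h2 h1.symm ?_
      rcases hpt' t ht ht1 with h3 | ⟨-, -, h3⟩
      · exfalso
        rw [← h1] at h3
        have := Nat.dvd_of_mul_dvd_mul_right hp.pos h3
        norm_num at this
      · exact h3 h1.symm
    obtain ⟨n, h1 | h1 | h1⟩ := exists_derived_card hD8 hD8'
    · exact hfin 60 n h1 (Or.inl rfl)
    · exact hfin 168 n h1 (Or.inr ⟨h7, Or.inl rfl⟩)
    · exact hfin 360 n h1 (Or.inr ⟨h7, Or.inr rfl⟩)
  · have hD4 : ∀ d : H ⧸ X, d * d = 1 → d ≠ 1 → Nat.card ↥(centralizer ({d} : Set (H ⧸ X))) ∣ 4 := by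
      intro d hd hd1
      obtain ⟨t, ht, ht1, rfl⟩ := hlift d hd hd1
      have h1 := (hcd t ht ht1).1
      have h2 : Nat.card ↥(centralizer ({t} : Set H)) ∣ 4 * p := by
        rcases hpt' t ht ht1 with h3 | ⟨h3, -, -⟩
        · exact h3
        · exact absurd h3 h7
      rw [← h1] at h2
      exact Nat.dvd_of_mul_dvd_mul_right hp.pos h2
    rcases card_dvd_sixty' hD4 with h1 | h1
    · exfalso
      apply hsol
      rw [Group.isSolvable_iff_subgroup_quotient X]
      exact ⟨Group.isSolvable_of_comm fun a b => Subtype.ext (mem_center_iff.1 (hXc b.2) a), h1⟩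
    · refine hfin 60 0 ?_ (Or.inl rfl)
      rw [derivedSeries_zero, Nat.card_congr Subgroup.topEquiv.toEquiv]
      exact h1

end Main

end Cfsg.Agent.CpAut.SmallP

end

-- merged: Cfsg.Agent.CpAut.SmallP.Tools
section

/-!
# Tools for the rows: bounds for `|C(t) ∩ C(x)|` (helper91)
-/

set_option autoImplicit false
set_option linter.unusedSectionVars false

namespace Cfsg.Agent.CpAut.SmallP

open Subgroup Cfsg

section

universe u
variable {K : Type u} [Group K]

/-- conjugation maps `C(t) ∩ C(x)` to `C(gtg⁻¹) ∩ C(gxg⁻¹)` -/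
def conjDD (x t g : K) : ↥(DD x t) ≃* ↥(DD (g * x * g⁻¹) (g * t * g⁻¹)) where
  toFun s := ⟨g * s * g⁻¹, mem_DD.2 ⟨by
    have h := (mem_DD.1 s.2).1
    calc g * s * g⁻¹ * (g * t * g⁻¹) = g * (s * t) * g⁻¹ := by group
      _ = g * (t * s) * g⁻¹ := by rw [h]
      _ = _ := by group, by
    have h := (mem_DD.1 s.2).2
    calc g * s * g⁻¹ * (g * x * g⁻¹) = g * (s * x) * g⁻¹ := by group
      _ = g * (x * s) * g⁻¹ := by rw [h]
      _ = _ := by group⟩⟩
  invFun s := ⟨g⁻¹ * s * g, mem_DD.2 ⟨by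
    have h := (mem_DD.1 s.2).1
    calc g⁻¹ * s * g * t = g⁻¹ * (s * (g * t * g⁻¹)) * g := by group
      _ = g⁻¹ * ((g * t * g⁻¹) * s) * g := by rw [h]
      _ = _ := by group, by
    have h := (mem_DD.1 s.2).2
    calc g⁻¹ * s * g * x = g⁻¹ * (s * (g * x * g⁻¹)) * g := by group
      _ = g⁻¹ * ((g * x * g⁻¹) * s) * g := by rw [h]
      _ = _ := by group⟩⟩
  left_inv s := Subtype.ext (by change g⁻¹ * (g * s * g⁻¹) * g = s; group)
  right_inv s := Subtype.ext (by change g * (g⁻¹ * s * g) * g⁻¹ = s; group)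
  map_mul' a b := Subtype.ext (by change g * (a * b) * g⁻¹ = g * a * g⁻¹ * (g * b * g⁻¹); group)

/-- the condition of `main` on the pair `(x, t)` -/
def Ok (p : ℕ) (x t : K) : Prop :=
  (Group.IsSolvable ↥(DD x t) ∧ ∀ s ∈ DD x t, s * s = 1 → s ≠ 1 → s = t) ∨ Nat.card ↥(DD x t) ∣ 4 * p ∨
    (p = 7 ∧ Nat.card ↥(DD x t) ∣ 8 * p ∧ (Nat.card ↥(DD x t) = 8 * p → ¬ IsMulCommutative ↥(DD x t)))

theorem Ok.conj {p : ℕ} {x t : K} (h : Ok p x t) (g : K) : Ok p (g * x * g⁻¹) (g * t * g⁻¹) := by
  have hc := Nat.card_congr (conjDD x t g).toEquiv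
  rcases h with ⟨h1, h2⟩ | h1 | ⟨h1, h2, h3⟩
  · left
    refine ⟨?_, ?_⟩
    · exact Group.isSolvable_of_isSolvable_injective (f := (conjDD x t g).symm.toMonoidHom)
        (conjDD x t g).symm.injective
    · intro s hs hss hs1
      have h3 := h2 (g⁻¹ * s * g) ((conjDD x t g).symm ⟨s, hs⟩).2 (by
        calc g⁻¹ * s * g * (g⁻¹ * s * g) = g⁻¹ * (s * s) * g := by group
          _ = 1 := by rw [hss]; group) (by
        intro h
        apply hs1
        calc s = g * (g⁻¹ * s * g) * g⁻¹ := by group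
          _ = 1 := by rw [h]; group)
      calc s = g * (g⁻¹ * s * g) * g⁻¹ := by group
        _ = g * t * g⁻¹ := by rw [h3]
  · right; left
    rw [← hc]; exact h1
  · right; right
    rw [← hc]
    refine ⟨h1, h2, fun h4 hcc => h3 h4 ⟨⟨fun a b => ?_⟩⟩⟩
    apply (conjDD x t g).injective
    rw [map_mul, map_mul]
    exact hcc.is_comm.comm _ _

/-- `Ok` for all `x` of order `p` commuting with `t`, transported to the conjugates of `t` -/
theorem ok_of_isConj {p : ℕ} {t t' : K} (ht : IsConj t t') (h : ∀ x : K, orderOf x = p → t * x = x * t → Ok p x t)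
    {x : K} (hx : orderOf x = p) (hxt : t' * x = x * t') : Ok p x t' := by
  obtain ⟨g, rfl⟩ := isConj_iff.1 ht
  have h1 := (h (g⁻¹ * x * g) (by
    have h2 : g⁻¹ * x * g = MulAut.conj g⁻¹ x := by simp only [_root_.map_inv, _root_.MulAut.inv_apply, _root_.MulAut.conj_symm_apply]
    rw [h2, MulEquiv.orderOf_eq, hx]) (by
    calc t * (g⁻¹ * x * g) = g⁻¹ * ((g * t * g⁻¹) * x) * g := by group
      _ = g⁻¹ * (x * (g * t * g⁻¹)) * g := by rw [hxt]
      _ = _ := by group)).conj g
  have h2 : g * (g⁻¹ * x * g) * g⁻¹ = x := by group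
  rwa [h2] at h1

/-- transport of `Ok` along an isomorphism -/
theorem main_ok [Finite K] {p : ℕ} (hp : p.Prime) (hp5 : 5 ≤ p)
    (h : ∀ t : K, t * t = 1 → t ≠ 1 → ∀ x : K, orderOf x = p → t * x = x * t → Ok p x t) :
    ∀ x : K, orderOf x = p → LThree.Comps p ↥(centralizer ({x} : Set K)) := fun x hx =>
  main hp hp5 hx fun t ht ht1 htx => h t ht ht1 x hx htx

/-- a finite group of order not divisible by 4 is solvable -/
theorem isSolvable_of_not_four_dvd {G : Type*} [Group G] [Finite G] (h : ¬ 4 ∣ Nat.card G) : Group.IsSolvable G := by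
  apply isSolvable_of_two_rank_one
  · intro t s ht ht1 hs hs1 hst
    by_contra hne
    obtain ⟨V, -, -, hV, -⟩ := exists_four ht ht1 hs hs1 (Ne.symm hne) hst.symm
    apply h
    rw [← hV]
    exact Subgroup.card_subgroup_dvd_card V
  · intro t ht ht1
    -- `⟨t⟩` is central in `C(t)`, with quotient of odd order
    let C := centralizer ({t} : Set G)
    let t' : ↥C := ⟨t, mem_centralizer_singleton_iff.2 rfl⟩
    have hc : t' ∈ center ↥C := by
      rw [mem_center_iff]
      intro g
      exact Subtype.ext (mem_centralizer_singleton_iff.1 g.2)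
    have hX : zpowers t' ≤ center ↥C := zpowers_le.2 hc
    have hn : (zpowers t').Normal := ⟨fun y hy g => by
      rw [mem_center_iff.1 (hX hy) g, mul_inv_cancel_right]; exact hy⟩
    rw [Group.isSolvable_iff_subgroup_quotient (zpowers t')]
    refine ⟨Group.isSolvable_of_comm fun a b => Subtype.ext (mem_center_iff.1 (hX b.2) a), ?_⟩
    apply S0205.result
    rw [← Nat.not_even_iff_odd]
    intro he
    apply h
    have h1 := Subgroup.card_eq_card_quotient_mul_card_subgroup (zpowers t')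
    have ht2 : orderOf t' = 2 := by
      rw [← Subgroup.orderOf_coe]
      exact orderOf_eq_prime (by rw [pow_two]; exact ht) ht1
    rw [Nat.card_zpowers, ht2] at h1
    obtain ⟨k, hk⟩ := he
    have h2 : Nat.card ↥C ∣ Nat.card G := Subgroup.card_subgroup_dvd_card C
    refine dvd_trans ⟨k, ?_⟩ h2
    rw [h1, hk]
    ring

theorem ok_of_not_four_dvd [Finite K] {p : ℕ} {x t : K} (ht : t * t = 1) (ht1 : t ≠ 1) (htx : t * x = x * t)
    (h : ¬ 4 ∣ Nat.card ↥(DD x t)) : Ok p x t := by
  left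
  refine ⟨isSolvable_of_not_four_dvd h, ?_⟩
  intro s hs hss hs1
  by_contra hne
  have htD : t ∈ DD x t := mem_DD.2 ⟨rfl, htx⟩
  obtain ⟨V, -, -, hV, -⟩ := exists_four (D := ↥(DD x t)) (a := ⟨t, htD⟩) (b := ⟨s, hs⟩) (Subtype.ext ht)
    (fun h => ht1 (congrArg Subtype.val h)) (Subtype.ext hss) (fun h => hs1 (congrArg Subtype.val h))
    (fun h => hne (congrArg Subtype.val h).symm) (Subtype.ext (mem_DD.1 hs).1.symm)
  apply h
  rw [← hV]
  exact Subgroup.card_subgroup_dvd_card V

/-- the order of `C(t) ∩ C(x)` from a homomorphism of `C(t)` -/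
theorem card_DD_dvd [Finite K] {Y : Type*} [Group Y] [Finite Y] {t x : K} (hx : x ∈ centralizer ({t} : Set K))
    (f : ↥(centralizer ({t} : Set K)) →* Y) (R : Subgroup Y) (hR : f.range ≤ R) :
    Nat.card ↥(DD x t) ∣ Nat.card ↥(f.ker ⊓ centralizer ({(⟨x, hx⟩ : ↥(centralizer ({t} : Set K)))} : Set _)) *
      Nat.card ↥(centralizer ({f ⟨x, hx⟩} : Set Y) ⊓ R) := by
  let C := centralizer ({t} : Set K)
  let A : Subgroup ↥C := centralizer ({(⟨x, hx⟩ : ↥C)} : Set ↥C)
  have h1 : Nat.card ↥(DD x t) = Nat.card ↥A := by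
    rw [← Subgroup.card_map_of_injective C.subtype_injective (K := A)]
    congr 2
    ext s
    constructor
    · intro hs
      have h2 := mem_DD.1 hs
      refine ⟨⟨s, mem_centralizer_singleton_iff.2 h2.1⟩, ?_, rfl⟩
      exact mem_centralizer_singleton_iff.2 (Subtype.ext h2.2)
    · rintro ⟨s, hs, rfl⟩
      exact mem_DD.2 ⟨mem_centralizer_singleton_iff.1 s.2,
        congrArg Subtype.val (mem_centralizer_singleton_iff.1 hs)⟩
  rw [h1]
  let g : ↥A →* Y := f.comp A.subtype
  have h2 : Nat.card ↥A = Nat.card ↥g.ker * g.ker.index := (Subgroup.card_mul_index g.ker).symm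
  have h3 : Nat.card ↥g.ker = Nat.card ↥(f.ker ⊓ A) := by
    have h4 : g.ker = f.ker.subgroupOf A := by
      ext s
      rfl
    rw [h4, ← Subgroup.card_map_of_injective A.subtype_injective, subgroupOf_map_subtype]
  have h5 : g.ker.index ∣ Nat.card ↥(centralizer ({f ⟨x, hx⟩} : Set Y) ⊓ R) := by
    rw [Subgroup.index_ker]
    apply Subgroup.card_dvd_of_le
    rintro _ ⟨s, rfl⟩
    refine ⟨mem_centralizer_singleton_iff.2 ?_, hR ⟨_, rfl⟩⟩
    change f s * f _ = f _ * f s
    rw [← map_mul, ← map_mul, mem_centralizer_singleton_iff.1 s.2]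
  rw [h2, h3]
  exact Nat.mul_dvd_mul_left _ h5

/-- `D ≤ V ⟨x⟩` with `V` commuting with `x` -/
theorem card_of_mul [Finite K] {x : K} (D V : Subgroup K) (hV : ∀ v ∈ V, v * x = x * v)
    (h : ∀ s ∈ D, ∃ v ∈ V, ∃ k : ℤ, s = v * x ^ k) : Nat.card ↥D ∣ Nat.card ↥V * orderOf x := by
  let φ : ↥V × ↥(zpowers x) →* K := MonoidHom.noncommCoprod V.subtype (zpowers x).subtype (by
    rintro ⟨v, hv⟩ ⟨_, k, rfl⟩
    exact (show Commute v x from hV v hv).zpow_right k)
  have h1 : D ≤ φ.range := by
    intro s hs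
    obtain ⟨v, hv, k, rfl⟩ := h s hs
    exact ⟨(⟨v, hv⟩, ⟨x ^ k, k, rfl⟩), rfl⟩
  refine (Subgroup.card_dvd_of_le h1).trans ?_
  rw [← Nat.card_zpowers, ← Nat.card_prod]
  exact Subgroup.card_range_dvd φ

/-- `C(t) ∩ C(x) ≤ V ⟨x⟩` with `V` commuting with `x` -/
theorem card_DD_of_mul [Finite K] {t x : K} (V : Subgroup K) (hV : ∀ v ∈ V, v * x = x * v)
    (h : ∀ s ∈ DD x t, ∃ v ∈ V, ∃ k : ℤ, s = v * x ^ k) : Nat.card ↥(DD x t) ∣ Nat.card ↥V * orderOf x :=
  card_of_mul _ V hV h

/-- `|D|` divides `2 |D ∩ L|` if `L` has the property `c ∈ L ∨ d ∈ L ∨ c d ∈ L` on `D` -/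
theorem card_of_two [Finite K] (D L : Subgroup K) (h : ∀ c ∈ D, ∀ d ∈ D, c ∈ L ∨ d ∈ L ∨ c * d ∈ L) :
    Nat.card ↥D ∣ 2 * Nat.card ↥(D ⊓ L) := by
  have h1 : Nat.card ↥(L.subgroupOf D) = Nat.card ↥(D ⊓ L) := by
    rw [← Subgroup.card_map_of_injective D.subtype_injective, subgroupOf_map_subtype, inf_comm]
  have h2 : Nat.card ↥D = Nat.card ↥(L.subgroupOf D) * (L.subgroupOf D).index :=
    (Subgroup.card_mul_index (L.subgroupOf D)).symm
  have h3 : (L.subgroupOf D).index ∣ 2 := by
    by_cases hle : D ≤ L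
    · rw [subgroupOf_eq_top.2 hle, Subgroup.index_top]
      exact one_dvd _
    · obtain ⟨a, haD, haL⟩ := SetLike.not_le_iff_exists.1 hle
      have h4 : (L.subgroupOf D).index = 2 := by
        rw [Subgroup.index_eq_two_iff]
        refine ⟨⟨a, haD⟩, ?_⟩
        rintro ⟨b, hb⟩
        change Xor (b * a ∈ L) (b ∈ L)
        by_cases hbL : b ∈ L
        · refine Or.inr ⟨hbL, fun h5 => haL ?_⟩
          have h6 : a = b⁻¹ * (b * a) := by group
          rw [h6]
          exact L.mul_mem (L.inv_mem hbL) h5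
        · refine Or.inl ⟨?_, hbL⟩
          exact ((h b hb a haD).resolve_left hbL).resolve_left haL
      rw [h4]
  rw [h2, h1, mul_comm]
  exact Nat.mul_dvd_mul_right h3 _

/-- fixed points of an element of order `p` on a normal subgroup `N`: `|C_N(x)| ≡ |N| (mod p)` -/
theorem card_fixed_modEq {G : Type*} [Group G] [Finite G] {p : ℕ} (hp : p.Prime) (N : Subgroup G) [hN : N.Normal] {x : G}
    (hx : orderOf x = p) :
    Nat.card ↥(N ⊓ centralizer ({x} : Set G)) ≡ Nat.card ↥N [MOD p] := by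
  have : Fact p.Prime := ⟨hp⟩
  have hP : IsPGroup p ↥(zpowers x) := IsPGroup.of_card (n := 1) (by rw [Nat.card_zpowers, hx, pow_one])
  let _ : MulAction ↥(zpowers x) ↥N :=
    { smul := fun g n => ⟨g * n * (g : G)⁻¹, hN.conj_mem n n.2 g⟩
      one_smul := fun n => Subtype.ext (by change (1 : G) * n * (1 : G)⁻¹ = n; group)
      mul_smul := fun a b n => Subtype.ext (by
        change ((a : G) * b) * n * ((a : G) * b)⁻¹ = a * (b * n * (b : G)⁻¹) * (a : G)⁻¹; group) }
  have h1 := hP.card_modEq_card_fixedPoints ↥N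
  have h2 : Nat.card ↥(MulAction.fixedPoints ↥(zpowers x) ↥N) = Nat.card ↥(N ⊓ centralizer ({x} : Set G)) := by
    refine Nat.card_congr ⟨fun n => ⟨(n : ↥N), (n : ↥N).2, ?_⟩, fun n => ⟨⟨n, n.2.1⟩, ?_⟩, fun _ => rfl, fun _ => rfl⟩
    · have h3 := congrArg Subtype.val (n.2 ⟨x, mem_zpowers x⟩)
      change x * n * x⁻¹ = n at h3
      exact mem_centralizer_singleton_iff.2 (mul_inv_eq_iff_eq_mul.1 h3).symm
    · rintro ⟨g, k, rfl⟩
      apply Subtype.ext
      change x ^ k * n * (x ^ k)⁻¹ = n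
      have h3 : Commute (n : G) x := mem_centralizer_singleton_iff.1 n.2.2
      rw [← (h3.zpow_right k).eq, mul_inv_cancel_right]
  rw [h2] at h1
  exact h1.symm

end

end Cfsg.Agent.CpAut.SmallP

end
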