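import Mathlib
import Cfsg.Agent.ONType.PslCard
import Cfsg.Agent.FastGrp
import Cfsg.Agent.Prune
set_option linter.all false
prune_inst 0x7f00000000000000000000000000000000000000000000000000000000000000000000000000000000000000000000000000000000000000000000000000000000000000000000000000000000000000003fffffffffffffffffffffffffffbeffbdffffffff
open scoped Cfsg.Agent.FastGrp

-- merged: Cfsg.Agent.CpAut.SmallP.Singer
section

/-!
# Elementary lemmas (helper91)

* `singer` : an automorphism of prime order `q` of a group `W` of order `q + 1` is transitive on `W - 1`;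
  `comm_singer`: the automorphisms commuting with it are its powers.
* `exists_conj_pow` : subgroups of order `p` are conjugate if `p² ∤ |G|`.
-/

set_option autoImplicit false

namespace Cfsg.Agent.CpAut.SmallP.Singer

open Subgroup

section
variable {W : Type*} [Group W] [Finite W] {q : ℕ} (hq : q.Prime) (hW : Nat.card W = q + 1) (y : MulAut W)
  (hy : y ^ q = 1) (hy1 : y ≠ 1)

include hq hW hy hy1

theorem fix_eq_one {w : W} (hw : y w = w) : w = 1 := by
  have : Fact q.Prime := ⟨hq⟩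
  have ho : orderOf y = q := orderOf_eq_prime hy hy1
  have hP : IsPGroup q ↥(zpowers y) := IsPGroup.of_card (n := 1) (by rw [Nat.card_zpowers, ho, pow_one])
  let F : Subgroup W :=
    { carrier := {w | y w = w}
      one_mem' := map_one y
      mul_mem' := fun {a b} ha hb => by
        change y (a * b) = a * b
        rw [map_mul, ha, hb]
      inv_mem' := fun {a} ha => by
        change y a⁻¹ = a⁻¹
        rw [map_inv, ha] }
  have h1 := hP.card_modEq_card_fixedPoints W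
  have h2 : Nat.card ↥(MulAction.fixedPoints ↥(zpowers y) W) = Nat.card ↥F := by
    refine Nat.card_congr ⟨fun n => ⟨n, n.2 ⟨y, mem_zpowers y⟩⟩, fun n => ⟨n, ?_⟩, fun _ => rfl, fun _ => rfl⟩
    rintro ⟨_, k, rfl⟩
    change (y ^ k) (n : W) = n
    have h3 : ∀ m : ℕ, (y ^ m) (n : W) = n := by
      intro m
      induction m with
      | zero => rfl
      | succ m ih => rw [pow_succ, MulAut.mul_apply, show y (n : W) = n from n.2, ih]
    obtain ⟨m, rfl | rfl⟩ := k.eq_nat_or_neg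
    · rw [zpow_natCast]; exact h3 m
    · rw [zpow_neg, zpow_natCast]
      apply (y ^ m).injective
      rw [MulAut.apply_inv_self]
      exact (h3 m).symm
  rw [h2, hW] at h1
  have h3 : Nat.card ↥F ∣ q + 1 := by rw [← hW]; exact Subgroup.card_subgroup_dvd_card F
  have h4 : Nat.card ↥F ≡ 1 [MOD q] := by
    refine h1.symm.trans ?_
    change (q + 1) % q = 1 % q
    rw [Nat.add_mod_left]
  have hpos : 0 < Nat.card ↥F := Nat.card_pos
  have h5 : Nat.card ↥F = 1 ∨ Nat.card ↥F = q + 1 := by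
    have h6 := (Nat.modEq_iff_dvd' hpos).1 h4.symm
    obtain ⟨k, hk⟩ := h6
    have h7 : Nat.card ↥F ≤ q + 1 := Nat.le_of_dvd (Nat.succ_pos _) h3
    have h8 : k ≤ 1 := by
      by_contra h9
      have h10 : q * 2 ≤ q * k := Nat.mul_le_mul_left q (by omega)
      have := hq.two_le
      omega
    rcases Nat.le_one_iff_eq_zero_or_eq_one.1 h8 with rfl | rfl
    · left; omega
    · right; omega
  rcases h5 with h5 | h5
  · have h6 := Subgroup.card_eq_one.1 h5
    have h7 : w ∈ F := hw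
    rw [h6, mem_bot] at h7
    exact h7
  · exfalso
    apply hy1
    have h6 : F = ⊤ := Subgroup.eq_top_of_card_eq F (by rw [h5, hW])
    ext v
    have h7 : v ∈ F := by rw [h6]; trivial
    exact h7

theorem singer {w v : W} (hw : w ≠ 1) (hv : v ≠ 1) : ∃ i : ℕ, (y ^ i) w = v := by
  classical
  have : Fact q.Prime := ⟨hq⟩
  have : Fintype W := Fintype.ofFinite W
  have ho : orderOf y = q := orderOf_eq_prime hy hy1
  -- the `q` elements `y ^ i w` are distinct
  have hinj : Function.Injective (fun i : Fin q => (y ^ (i : ℕ)) w) := by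
    intro i j hij
    have key : ∀ a b : ℕ, a < b → b < q → (y ^ a) w = (y ^ b) w → False := by
      intro a b hab hb h
      have h1 : (y ^ (b - a)) w = w := by
        apply (y ^ a).injective
        rw [← MulAut.mul_apply, ← pow_add, Nat.add_sub_cancel' hab.le, h]
      have h2 : (y ^ (b - a)) ^ q = 1 := by rw [← pow_mul, mul_comm, pow_mul, hy, one_pow]
      have h3 : y ^ (b - a) ≠ 1 := by
        intro h4
        have h5 := orderOf_dvd_of_pow_eq_one h4
        rw [ho] at h5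
        have := Nat.le_of_dvd (by omega) h5
        omega
      exact hw (fix_eq_one hq hW (y ^ (b - a)) h2 h3 h1)
    rcases lt_trichotomy (i : ℕ) (j : ℕ) with h | h | h
    · exact (key _ _ h j.2 hij).elim
    · exact Fin.ext h
    · exact (key _ _ h i.2 hij.symm).elim
  have h1 : (Finset.univ.image (fun i : Fin q => (y ^ (i : ℕ)) w)) = Finset.univ.erase (1 : W) := by
    apply Finset.eq_of_subset_of_card_le
    · intro v hv
      rw [Finset.mem_image] at hv
      obtain ⟨i, -, rfl⟩ := hv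
      rw [Finset.mem_erase]
      refine ⟨?_, Finset.mem_univ _⟩
      intro h
      apply hw
      exact (map_eq_one_iff _ (y ^ (i : ℕ)).injective).1 h
    · rw [Finset.card_erase_of_mem (Finset.mem_univ _), Finset.card_image_of_injective _ hinj, Finset.card_univ,
        Finset.card_univ, Fintype.card_fin, ← Nat.card_eq_fintype_card, hW]
      exact le_rfl
  have h2 : v ∈ Finset.univ.image (fun i : Fin q => (y ^ (i : ℕ)) w) := by
    rw [h1, Finset.mem_erase]
    exact ⟨hv, Finset.mem_univ _⟩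
  rw [Finset.mem_image] at h2
  obtain ⟨i, -, hi⟩ := h2
  exact ⟨i, hi⟩

theorem comm_singer {c : MulAut W} (hc : c * y = y * c) : ∃ i : ℕ, c = y ^ i := by
  have : Nontrivial W := by
    rw [← Finite.one_lt_card_iff_nontrivial, hW]
    have := hq.pos
    omega
  obtain ⟨w, hw⟩ := exists_ne (1 : W)
  have hcw : c w ≠ 1 := fun h => hw ((map_eq_one_iff c c.injective).1 h)
  obtain ⟨i, hi⟩ := singer hq hW y hy hy1 hw hcw
  refine ⟨i, ?_⟩
  ext v
  by_cases hv : v = 1
  · rw [hv, map_one, map_one]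
  · obtain ⟨j, rfl⟩ := singer hq hW y hy hy1 hw hv
    have h1 : c * y ^ j = y ^ j * c := (show Commute c y from hc).pow_right j
    calc c ((y ^ j) w) = (c * y ^ j) w := rfl
      _ = (y ^ j) (c w) := by rw [h1]; rfl
      _ = (y ^ j * y ^ i) w := by rw [← hi]; rfl
      _ = (y ^ i) ((y ^ j) w) := by rw [← pow_add, add_comm, pow_add]; rfl

end

/-- Let `Z ≤ E` be normal with `|E / Z| = q + 1`, and `x` of `q`-power 1 acting nontrivially on `E / Z`. Then an element
`c` commuting with `x` acts on `E / Z` like a power of `x`; the elements of `E` commuting with `x` modulo `Z` are in `Z`. -/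
theorem sect {P : Type*} [Group P] [Finite P] {q : ℕ} (hq : q.Prime) (Z E : Subgroup P) [Z.Normal] [E.Normal] (hZE : Z ≤ E)
    (hE : Nat.card ↥E = (q + 1) * Nat.card ↥Z) {x : P} (hx : x ^ q = 1) {e : P} (he : e ∈ E)
    (hx1 : x * e * x⁻¹ * e⁻¹ ∉ Z) :
    (∀ c : P, c * x = x * c → ∃ i : ℕ, ∀ v ∈ E, (c * (x ^ i)⁻¹) * v * (c * (x ^ i)⁻¹)⁻¹ * v⁻¹ ∈ Z) ∧
    (∀ v ∈ E, x * v * x⁻¹ * v⁻¹ ∈ Z → v ∈ Z) := by
  let M : Subgroup (P ⧸ Z) := E.map (QuotientGroup.mk' Z)
  have hM : M.Normal := Subgroup.Normal.map inferInstance _ (QuotientGroup.mk'_surjective Z)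
  have hcard : Nat.card ↥M = q + 1 := by
    let f : ↥E →* ↥M := (QuotientGroup.mk' Z).subgroupMap E
    have hf : Function.Surjective f := (QuotientGroup.mk' Z).subgroupMap_surjective E
    have hk : f.ker = Z.subgroupOf E := by
      ext y
      rw [MonoidHom.mem_ker]
      constructor
      · intro hy
        exact mem_subgroupOf.2 ((QuotientGroup.eq_one_iff (y : P)).1 (congrArg Subtype.val hy))
      · intro hy
        exact Subtype.ext ((QuotientGroup.eq_one_iff (y : P)).2 (mem_subgroupOf.1 hy))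
    have h1 : Nat.card ↥E = Nat.card ↥f.ker * f.ker.index := (Subgroup.card_mul_index f.ker).symm
    have h2 : Nat.card ↥f.ker = Nat.card ↥Z := by
      rw [hk]
      exact Nat.card_congr (Subgroup.subgroupOfEquivOfLe hZE).toEquiv
    have h3 : f.ker.index = Nat.card ↥M := by
      rw [Subgroup.index_ker, MonoidHom.range_eq_top.2 hf]
      exact Nat.card_congr Subgroup.topEquiv.toEquiv
    rw [h2, h3, hE, mul_comm] at h1
    exact (Nat.eq_of_mul_eq_mul_left Nat.card_pos h1).symm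
  let φ : P →* MulAut ↥M := (MulAut.conjNormal (H := M)).comp (QuotientGroup.mk' Z)
  have hφ : ∀ (g : P) (v : P) (hv : v ∈ E), ((φ g ⟨QuotientGroup.mk' Z v, v, hv, rfl⟩ : ↥M) : P ⧸ Z) =
      QuotientGroup.mk' Z (g * v * g⁻¹) := by
    intro g v hv
    change ((MulAut.conjNormal (QuotientGroup.mk' Z g) ⟨QuotientGroup.mk' Z v, v, hv, rfl⟩ : ↥M) : P ⧸ Z) = _
    rw [MulAut.conjNormal_apply, map_mul, map_mul, map_inv]
  have hmk : ∀ a b : P, QuotientGroup.mk' Z a = QuotientGroup.mk' Z b ↔ a * b⁻¹ ∈ Z := by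
    intro a b
    rw [← QuotientGroup.eq_one_iff, ← mul_inv_eq_one (a := QuotientGroup.mk' Z a), ← map_inv, ← map_mul]
    rfl
  have hy : φ x ^ q = 1 := by rw [← map_pow, hx, map_one]
  have hy1 : φ x ≠ 1 := by
    intro h
    apply hx1
    have h1 := hφ x e he
    rw [h] at h1
    exact (hmk _ _).1 h1.symm
  refine ⟨?_, ?_⟩
  · intro c hc
    obtain ⟨i, hi⟩ := comm_singer hq hcard (φ x) hy hy1 (c := φ c) (by rw [← map_mul, ← map_mul, hc])
    refine ⟨i, fun v hv => ?_⟩
    have h1 : φ (c * (x ^ i)⁻¹) = 1 := by rw [map_mul, map_inv, map_pow, hi, mul_inv_cancel]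
    have h2 := hφ (c * (x ^ i)⁻¹) v hv
    rw [h1] at h2
    exact (hmk _ _).1 h2.symm
  · intro v hv hxv
    have h1 : φ x ⟨QuotientGroup.mk' Z v, v, hv, rfl⟩ = ⟨QuotientGroup.mk' Z v, v, hv, rfl⟩ := by
      apply Subtype.ext
      rw [hφ x v hv]
      exact (hmk _ _).2 hxv
    have h2 := fix_eq_one hq hcard (φ x) hy hy1 h1
    exact (QuotientGroup.eq_one_iff v).1 (congrArg Subtype.val h2)

/-- conjugacy of the subgroups of order `p` -/
theorem exists_conj_pow {G : Type*} [Group G] [Finite G] {p : ℕ} (hp : p.Prime) (hG : ¬ p ^ 2 ∣ Nat.card G) {x y : G}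
    (hx : orderOf x = p) (hy : orderOf y = p) : ∃ (g : G) (k : ℕ), g * x * g⁻¹ = y ^ k := by
  have : Fact p.Prime := ⟨hp⟩
  have hs : ∀ z : G, orderOf z = p → ∃ S : Sylow p G, (S : Subgroup G) = zpowers z := by
    intro z hz
    have hP : IsPGroup p ↥(zpowers z) := IsPGroup.of_card (n := 1) (by rw [Nat.card_zpowers, hz, pow_one])
    obtain ⟨S, hS⟩ := hP.exists_le_sylow
    refine ⟨S, (Subgroup.eq_of_le_of_card_ge hS ?_).symm⟩
    obtain ⟨n, hn⟩ := IsPGroup.iff_card.1 S.2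
    have h1 : n ≤ 1 := by
      by_contra h
      apply hG
      refine dvd_trans (pow_dvd_pow p (by omega : 2 ≤ n)) ?_
      rw [← hn]
      exact Subgroup.card_subgroup_dvd_card _
    rw [Nat.card_zpowers, hz, hn]
    calc p ^ n ≤ p ^ 1 := Nat.pow_le_pow_right hp.pos h1
      _ = p := pow_one p
  obtain ⟨S, hS⟩ := hs x hx
  obtain ⟨T, hT⟩ := hs y hy
  obtain ⟨g, hg⟩ := MulAction.exists_smul_eq G S T
  have h1 : g * x * g⁻¹ ∈ (T : Subgroup G) := by
    rw [← hg]
    exact Subgroup.smul_mem_pointwise_smul x (MulAut.conj g) (S : Subgroup G) (by rw [hS]; exact mem_zpowers x)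
  rw [hT] at h1
  obtain ⟨k, hk⟩ := (mem_powers_iff_mem_zpowers (x := y)).2 h1
  exact ⟨g, k, hk.symm⟩

end Cfsg.Agent.CpAut.SmallP.Singer

end

-- merged: Cfsg.Agent.CpAut.SmallP.PslFour
section

/-!
# Centralizers of elements of order 5 and 7 in `PSL(3,4)` (helper91)
-/

set_option autoImplicit false

namespace Cfsg.Agent.CpAut.SmallP.PslFour

open Matrix Subgroup
open Cfsg.Agent.SporadicA.FieldFour
open Cfsg.Agent.ONType.Psl Cfsg.Agent.ONType.PslCard

/-- a matrix of order 7 -/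
def m7 : Matrix (Fin 3) (Fin 3) F4 := !![0, 0, 1; 1, 0, 1; 0, 1, 0]
/-- a matrix of order 5 -/
def m5 : Matrix (Fin 3) (Fin 3) F4 := !![0, 1, 0; 1, ω, 0; 0, 0, 1]

theorem det7 : m7.det = 1 := by rw [Matrix.det_fin_three]; decide +kernel
theorem det5 : m5.det = 1 := by rw [Matrix.det_fin_three]; decide +kernel

def s7 : SL3 := ⟨m7, det7⟩
def s5 : SL3 := ⟨m5, det5⟩

theorem m7_pow : m7 ^ 7 = 1 := by decide +kernel
theorem m5_pow : m5 ^ 5 = 1 := by decide +kernel

theorem s7_pow : s7 ^ 7 = 1 := Subtype.ext m7_pow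
theorem s5_pow : s5 ^ 5 = 1 := Subtype.ext m5_pow

/-- the polynomials in `m7` -/
def c7 (a b d : F4) : Matrix (Fin 3) (Fin 3) F4 := !![a, d, b; b, a + d, d + b; d, b, a + d]

theorem c7_det : ∀ a b d : F4, (c7 a b d).det = 1 → ∃ (i : Fin 7) (s : Fin 3), c7 a b d = (ω ^ (s : ℕ)) • m7 ^ (i : ℕ) := by
  intro a b d
  rw [Matrix.det_fin_three]
  revert a b d
  decide +kernel

theorem comm7 (c : Matrix (Fin 3) (Fin 3) F4) (h : c * m7 = m7 * c) : c = c7 (c 0 0) (c 1 0) (c 2 0) := by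
  have e := fun i j => congrFun (congrFun h i) j
  have e00 := e 0 0
  have e10 := e 1 0
  have e20 := e 2 0
  have e01 := e 0 1
  have e11 := e 1 1
  have e21 := e 2 1
  simp only [m7, Matrix.mul_apply, Fin.sum_univ_three, _root_.Fin.isValue, _root_.Matrix.of_apply, _root_.Matrix.cons_val', _root_.Matrix.cons_val_zero, _root_.Matrix.cons_val_fin_one, _root_.MulZeroClass.mul_zero, _root_.Matrix.cons_val_one, _root_.mul_one, _root_.zero_add, _root_.Matrix.cons_val, _root_.add_zero, _root_.MulZeroClass.zero_mul, _root_.one_mul] at e00 e10 e20 e01 e11 e21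
  ext i j
  (revert i j; simp only [c7, _root_.Fin.forall_fin_succ, Fin.isValue, _root_.Matrix.of_apply, _root_.Matrix.cons_val', _root_.Matrix.cons_val_fin_one, _root_.Matrix.cons_val_zero, _root_.Matrix.cons_val_succ, _root_.Fin.succ_zero_eq_one, _root_.Fin.succ_one_eq_two, _root_.IsEmpty.forall_iff, _root_.and_true, _root_.true_and]) <;> (repeat' with_reducible apply And.intro) <;> simp_all [add_comm]

/-- the matrices commuting with `m5` -/
def c5 (a b d : F4) : Matrix (Fin 3) (Fin 3) F4 := !![a, b, 0; b, a + ω * b, 0; 0, 0, d]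

theorem c5_det : ∀ a b d : F4, (c5 a b d).det = 1 → ∃ (i : Fin 5) (s : Fin 3), c5 a b d = (ω ^ (s : ℕ)) • m5 ^ (i : ℕ) := by
  intro a b d
  rw [Matrix.det_fin_three]
  revert a b d
  decide +kernel

theorem c5_aux : ∀ a b : F4, a = b → b = a + ω * b → a = 0 ∧ b = 0 := by decide +kernel
theorem c5_aux' : ∀ a b : F4, b = a → a + b * ω = b → a = 0 ∧ b = 0 := by decide +kernel

theorem comm5 (c : Matrix (Fin 3) (Fin 3) F4) (h : c * m5 = m5 * c) : c = c5 (c 0 0) (c 0 1) (c 2 2) := by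
  have e := fun i j => congrFun (congrFun h i) j
  have e00 := e 0 0
  have e01 := e 0 1
  have e02 := e 0 2
  have e12 := e 1 2
  have e20 := e 2 0
  have e21 := e 2 1
  simp only [m5, Matrix.mul_apply, Fin.sum_univ_three, _root_.Fin.isValue, _root_.Matrix.of_apply, _root_.Matrix.cons_val', _root_.Matrix.cons_val_zero, _root_.Matrix.cons_val_fin_one, _root_.MulZeroClass.mul_zero, _root_.Matrix.cons_val_one, _root_.mul_one, _root_.zero_add, _root_.Matrix.cons_val, _root_.add_zero, _root_.MulZeroClass.zero_mul, _root_.one_mul] at e00 e01 e02 e12 e20 e21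
  obtain ⟨z1, z2⟩ := c5_aux _ _ e02 e12
  obtain ⟨z3, z4⟩ := c5_aux' _ _ e20 e21
  ext i j
  (revert i j; simp only [c5, z1, z2, z3, z4, _root_.Fin.forall_fin_succ, Fin.isValue, _root_.Matrix.of_apply, _root_.Matrix.cons_val', _root_.Matrix.cons_val_fin_one, _root_.Matrix.cons_val_zero, _root_.Matrix.cons_val_succ, _root_.Fin.succ_zero_eq_one, _root_.Fin.succ_one_eq_two, _root_.IsEmpty.forall_iff, _root_.and_true, _root_.true_and]) <;> (repeat' with_reducible apply And.intro)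
  · exact e00.symm
  · rw [← e01, e00, mul_comm]

/-! ### Lifting -/

theorem mk_eq_iff (A B : SL3) : (QuotientGroup.mk A : PSL3) = QuotientGroup.mk B ↔
    ∃ r : F4, r ^ 3 = 1 ∧ (B : Matrix (Fin 3) (Fin 3) F4) = r • (A : Matrix (Fin 3) (Fin 3) F4) := by
  rw [QuotientGroup.eq, Matrix.SpecialLinearGroup.mem_center_iff]
  constructor
  · rintro ⟨r, hr, h⟩
    refine ⟨r, by simpa only [_root_.Fintype.card_fin] using hr, ?_⟩
    have h1 : B = A * (A⁻¹ * B) := by group
    have h2 : (B : Matrix (Fin 3) (Fin 3) F4) = A * ((A⁻¹ * B : SL3) : Matrix (Fin 3) (Fin 3) F4) := by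
      conv_lhs => rw [h1]
      rfl
    rw [h2, ← h]
    ext i j
    rw [Matrix.scalar_apply, Matrix.mul_diagonal, Matrix.smul_apply, smul_eq_mul, mul_comm]
  · rintro ⟨r, hr, h⟩
    refine ⟨r, by simpa only [_root_.Fintype.card_fin] using hr, ?_⟩
    have h2 : ((A⁻¹ * B : SL3) : Matrix (Fin 3) (Fin 3) F4) =
        ((A⁻¹ : SL3) : Matrix (Fin 3) (Fin 3) F4) * (B : Matrix (Fin 3) (Fin 3) F4) := rfl
    rw [h2, h, Matrix.mul_smul]
    have h3 : ((A⁻¹ : SL3) : Matrix (Fin 3) (Fin 3) F4) * (A : Matrix (Fin 3) (Fin 3) F4) = 1 := by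
      have h4 : ((A⁻¹ * A : SL3) : Matrix (Fin 3) (Fin 3) F4) = 1 := by rw [inv_mul_cancel]; rfl
      exact h4
    rw [h3, Matrix.scalar_apply, Matrix.smul_one_eq_diagonal]

theorem pow_one_of : ∀ r : F4, r ^ 3 = 1 → (r ^ 7 = 1 → r = 1) ∧ (r ^ 5 = 1 → r = 1) := by decide +kernel

/-- `g y g⁻¹ = z` in `PSL` for the images of elements of order 5 or 7 lifts to `SL` -/
theorem lift_conj {q : ℕ} (hq : q = 7 ∨ q = 5) {A B C : SL3} (hA : A ^ q = 1) (hB : B ^ q = 1)
    (h : (QuotientGroup.mk C : PSL3) * QuotientGroup.mk A = QuotientGroup.mk B * QuotientGroup.mk C) : C * A = B * C := by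
  have h1 : (QuotientGroup.mk B : PSL3) = QuotientGroup.mk (C * A * C⁻¹) := by
    have h2 : (QuotientGroup.mk (C * A * C⁻¹) : PSL3) =
        QuotientGroup.mk C * QuotientGroup.mk A * (QuotientGroup.mk C)⁻¹ := rfl
    rw [h2, h]
    group
  rw [mk_eq_iff] at h1
  obtain ⟨r, hr, h2⟩ := h1
  have h3 : ((C * A * C⁻¹ : SL3) ^ q) = 1 := by
    rw [conj_pow, hA]; group
  have h4 : (((C * A * C⁻¹ : SL3) ^ q : SL3) : Matrix (Fin 3) (Fin 3) F4) = r ^ q • (1 : Matrix (Fin 3) (Fin 3) F4) := by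
    rw [Matrix.SpecialLinearGroup.coe_pow, h2, smul_pow, ← Matrix.SpecialLinearGroup.coe_pow, hB]
    rfl
  rw [h3] at h4
  have h5 : r ^ q = 1 := by
    have h6 := congrFun (congrFun h4 0) 0
    simpa only [_root_.Fin.isValue, _root_.Matrix.smul_apply, _root_.Matrix.one_apply_eq, _root_.smul_eq_mul, _root_.mul_one, _root_.Matrix.SpecialLinearGroup.coe_one] using h6.symm
  have h6 : r = 1 := by
    rcases hq with rfl | rfl
    · exact (pow_one_of r hr).1 h5
    · exact (pow_one_of r hr).2 h5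
  rw [h6, one_smul] at h2
  have h7 : C * A * C⁻¹ = B := Subtype.ext h2
  rw [← h7]
  group

def p7 : PSL3 := QuotientGroup.mk s7
def p5 : PSL3 := QuotientGroup.mk s5

theorem wpow : ∀ s : Fin 3, (ω ^ (s : ℕ)) ^ 3 = 1 := by decide +kernel

theorem cent_p7 (p : PSL3) (h : p * p7 = p7 * p) : ∃ i : ℕ, p = p7 ^ i := by
  obtain ⟨C, rfl⟩ := QuotientGroup.mk_surjective p
  have h1 := lift_conj (Or.inl rfl) s7_pow s7_pow h
  have h2 : (C : Matrix (Fin 3) (Fin 3) F4) * m7 = m7 * C := congrArg Subtype.val h1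
  have h3 := comm7 _ h2
  obtain ⟨i, s, h4⟩ := c7_det _ _ _ (by rw [← h3]; exact C.2)
  refine ⟨i, ?_⟩
  have h5 : (p7 : PSL3) ^ (i : ℕ) = QuotientGroup.mk (s7 ^ (i : ℕ)) := rfl
  rw [h5]
  symm
  rw [mk_eq_iff]
  refine ⟨ω ^ (s : ℕ), wpow s, ?_⟩
  rw [Matrix.SpecialLinearGroup.coe_pow]
  exact h3.trans h4

theorem cent_p5 (p : PSL3) (h : p * p5 = p5 * p) : ∃ i : ℕ, p = p5 ^ i := by
  obtain ⟨C, rfl⟩ := QuotientGroup.mk_surjective p
  have h1 := lift_conj (Or.inr rfl) s5_pow s5_pow h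
  have h2 : (C : Matrix (Fin 3) (Fin 3) F4) * m5 = m5 * C := congrArg Subtype.val h1
  have h3 := comm5 _ h2
  obtain ⟨i, s, h4⟩ := c5_det _ _ _ (by rw [← h3]; exact C.2)
  refine ⟨i, ?_⟩
  have h5 : (p5 : PSL3) ^ (i : ℕ) = QuotientGroup.mk (s5 ^ (i : ℕ)) := rfl
  rw [h5]
  symm
  rw [mk_eq_iff]
  refine ⟨ω ^ (s : ℕ), wpow s, ?_⟩
  rw [Matrix.SpecialLinearGroup.coe_pow]
  exact h3.trans h4

theorem trace_ne : m5.trace ≠ (m5 ^ 2).trace := by
  rw [Matrix.trace_fin_three, Matrix.trace_fin_three]; decide +kernel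

theorem not_sq_p5 (p : PSL3) : p * p5 ≠ p5 ^ 2 * p := by
  intro h
  obtain ⟨C, rfl⟩ := QuotientGroup.mk_surjective p
  have h1 := lift_conj (q := 5) (A := s5) (B := s5 ^ 2) (C := C) (Or.inr rfl) s5_pow
    (by rw [← pow_mul, mul_comm, pow_mul, s5_pow, one_pow]) h
  have h2 : (C : Matrix (Fin 3) (Fin 3) F4) * m5 = m5 ^ 2 * C := by
    have h3 := congrArg Subtype.val h1
    have h4 : ((s5 ^ 2 * C : SL3) : Matrix (Fin 3) (Fin 3) F4) = ((s5 ^ 2 : SL3) : Matrix (Fin 3) (Fin 3) F4) * C := rfl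
    have h5 : ((s5 ^ 2 : SL3) : Matrix (Fin 3) (Fin 3) F4) = m5 ^ 2 := Matrix.SpecialLinearGroup.coe_pow _ _
    rw [h5] at h4
    exact h3.trans h4
  apply trace_ne
  have h3 : ((C⁻¹ : SL3) : Matrix (Fin 3) (Fin 3) F4) * (C : Matrix (Fin 3) (Fin 3) F4) = 1 := by
    have h4 : ((C⁻¹ * C : SL3) : Matrix (Fin 3) (Fin 3) F4) = 1 := by rw [inv_mul_cancel]; rfl
    exact h4
  calc m5.trace = (((C⁻¹ : SL3) : Matrix (Fin 3) (Fin 3) F4) * (C : Matrix (Fin 3) (Fin 3) F4) * m5).trace := by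
        rw [h3, one_mul]
    _ = (((C⁻¹ : SL3) : Matrix (Fin 3) (Fin 3) F4) * (m5 ^ 2 * (C : Matrix (Fin 3) (Fin 3) F4))).trace := by
        rw [mul_assoc, h2]
    _ = ((m5 ^ 2 * (C : Matrix (Fin 3) (Fin 3) F4)) * ((C⁻¹ : SL3) : Matrix (Fin 3) (Fin 3) F4)).trace := by
        rw [Matrix.trace_mul_comm]
    _ = (m5 ^ 2).trace := by
        rw [mul_assoc, mul_eq_one_comm.1 h3, mul_one]

theorem p7_pow : p7 ^ 7 = 1 := by
  have h : p7 ^ 7 = (QuotientGroup.mk (s7 ^ 7) : PSL3) := rfl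
  rw [h, s7_pow]; rfl

theorem p5_pow : p5 ^ 5 = 1 := by
  have h : p5 ^ 5 = (QuotientGroup.mk (s5 ^ 5) : PSL3) := rfl
  rw [h, s5_pow]; rfl

theorem p7_ne : p7 ≠ 1 := by
  intro h
  have h1 : (QuotientGroup.mk (1 : SL3) : PSL3) = QuotientGroup.mk s7 := h.symm
  rw [mk_eq_iff] at h1
  obtain ⟨r, -, h2⟩ := h1
  have h3 := congrFun (congrFun h2 1) 0
  revert h3
  simp [s7, m7]

theorem p5_ne : p5 ≠ 1 := by
  intro h
  have h1 : (QuotientGroup.mk (1 : SL3) : PSL3) = QuotientGroup.mk s5 := h.symm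
  rw [mk_eq_iff] at h1
  obtain ⟨r, -, h2⟩ := h1
  have h3 := congrFun (congrFun h2 1) 0
  revert h3
  simp [s5, m5]

theorem finite_PSL3 : Finite PSL3 := Nat.finite_of_card_ne_zero (by rw [card_PSL3]; norm_num)

theorem order_p7 : orderOf p7 = 7 := by
  have : Fact (Nat.Prime 7) := ⟨by norm_num⟩
  exact orderOf_eq_prime p7_pow p7_ne

theorem order_p5 : orderOf p5 = 5 := by
  have : Fact (Nat.Prime 5) := ⟨by norm_num⟩
  exact orderOf_eq_prime p5_pow p5_ne

/-- transport of a self-centralizing statement to the conjugate subgroups -/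
theorem cent_of {G : Type*} [Group G] [Finite G] {p : ℕ} (hp : p.Prime) {x y : G} (hx : orderOf x = p) (hy : orderOf y = p)
    {g : G} {k : ℕ} (h : g * x * g⁻¹ = y ^ k) (hc : ∀ c : G, c * y = y * c → ∃ i : ℕ, c = y ^ i) (c : G)
    (hcx : c * x = x * c) : ∃ i : ℤ, c = x ^ i := by
  -- `y` is a power of `g x g⁻¹`
  have hk : ¬ p ∣ k := by
    intro hd
    obtain ⟨m, rfl⟩ := hd
    rw [pow_mul, ← hy, pow_orderOf_eq_one, one_pow] at h
    have h1 : x = 1 := by
      calc x = g⁻¹ * (g * x * g⁻¹) * g := by group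
        _ = 1 := by rw [h]; group
    rw [h1, orderOf_one] at hx
    exact hp.one_lt.ne hx
  have hcop : Nat.Coprime k p := ((Nat.Prime.coprime_iff_not_dvd hp).2 hk).symm
  obtain ⟨l, hl⟩ : ∃ l : ℤ, y = (y ^ k) ^ l := by
    have h1 : zpowers (y ^ k) = zpowers y := by
      apply Subgroup.eq_of_le_of_card_ge
      · rw [zpowers_le]; exact pow_mem (mem_zpowers y) k
      · rw [Nat.card_zpowers, Nat.card_zpowers, Nat.Coprime.orderOf_pow (by rw [hy]; exact hcop.symm)]
    have h2 : y ∈ zpowers (y ^ k) := by rw [h1]; exact mem_zpowers y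
    obtain ⟨l, hl⟩ := mem_zpowers_iff.1 h2
    exact ⟨l, hl.symm⟩
  have h1 : (g * c * g⁻¹) * y = y * (g * c * g⁻¹) := by
    rw [hl, ← h]
    have h2 : Commute c x := hcx
    have h3 : Commute (g * c * g⁻¹) (g * x * g⁻¹) := by
      change g * c * g⁻¹ * (g * x * g⁻¹) = g * x * g⁻¹ * (g * c * g⁻¹)
      calc g * c * g⁻¹ * (g * x * g⁻¹) = g * (c * x) * g⁻¹ := by group
        _ = g * (x * c) * g⁻¹ := by rw [h2.eq]
        _ = _ := by group
    exact (h3.zpow_right l).eq
  obtain ⟨i, hi⟩ := hc _ h1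
  refine ⟨l * i, ?_⟩
  have h2 : g * c * g⁻¹ = g * x ^ (l * i) * g⁻¹ := by
    rw [hi, ← conj_zpow, _root_.zpow_mul, h, ← hl, zpow_natCast]
  calc c = g⁻¹ * (g * c * g⁻¹) * g := by group
    _ = g⁻¹ * (g * x ^ (l * i) * g⁻¹) * g := by rw [h2]
    _ = x ^ (l * i) := by group

/-- the centralizer in `PSL(3,4)` of an element of order 7 -/
theorem cent7 {x : PSL3} (hx : orderOf x = 7) (c : PSL3) (hc : c * x = x * c) : ∃ i : ℤ, c = x ^ i := by
  have := finite_PSL3
  obtain ⟨g, k, h⟩ := Singer.exists_conj_pow (by norm_num : Nat.Prime 7) (by rw [card_PSL3]; norm_num) hx order_p7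
  exact cent_of (by norm_num) hx order_p7 h cent_p7 c hc

/-- the centralizer in `PSL(3,4)` of an element of order 5 -/
theorem cent5 {x : PSL3} (hx : orderOf x = 5) (c : PSL3) (hc : c * x = x * c) : ∃ i : ℤ, c = x ^ i := by
  have := finite_PSL3
  obtain ⟨g, k, h⟩ := Singer.exists_conj_pow (by norm_num : Nat.Prime 5) (by rw [card_PSL3]; norm_num) hx order_p5
  exact cent_of (by norm_num) hx order_p5 h cent_p5 c hc

/-- an element of order 5 of `PSL(3,4)` is not conjugate to its square -/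
theorem not_sq {x : PSL3} (hx : orderOf x = 5) (c : PSL3) : c * x * c⁻¹ ≠ x ^ 2 := by
  intro hc
  have := finite_PSL3
  have hp : Nat.Prime 5 := by norm_num
  obtain ⟨g, k, h⟩ := Singer.exists_conj_pow hp (by rw [card_PSL3]; norm_num) hx order_p5
  have hk : ¬ 5 ∣ k := by
    intro hd
    obtain ⟨m, rfl⟩ := hd
    rw [pow_mul, p5_pow, one_pow] at h
    have h1 : x = 1 := by
      calc x = g⁻¹ * (g * x * g⁻¹) * g := by group
        _ = 1 := by rw [h]; group
    rw [h1, orderOf_one] at hx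
    norm_num at hx
  obtain ⟨l, hl⟩ : ∃ l : ℕ, (p5 ^ k) ^ l = p5 := by
    have h1 : zpowers (p5 ^ k) = zpowers p5 := by
      apply Subgroup.eq_of_le_of_card_ge
      · rw [zpowers_le]; exact pow_mem (mem_zpowers p5) k
      · rw [Nat.card_zpowers, Nat.card_zpowers, Nat.Coprime.orderOf_pow (by
          rw [order_p5]; exact (Nat.Prime.coprime_iff_not_dvd hp).2 hk)]
    have h2 : p5 ∈ zpowers (p5 ^ k) := by rw [h1]; exact mem_zpowers p5
    obtain ⟨l, hl⟩ := (mem_powers_iff_mem_zpowers (x := p5 ^ k)).2 h2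
    exact ⟨l, hl⟩
  apply not_sq_p5 (g * c * g⁻¹)
  have h1 : (g * c * g⁻¹) * (g * x * g⁻¹) * (g * c * g⁻¹)⁻¹ = (g * x * g⁻¹) ^ 2 := by
    rw [conj_pow, ← hc]
    group
  rw [h] at h1
  have h2 : (g * c * g⁻¹) * ((p5 ^ k) ^ l) * (g * c * g⁻¹)⁻¹ = ((p5 ^ k) ^ 2) ^ l := by
    rw [← conj_pow, h1]
  rw [← pow_mul (p5 ^ k) 2 l, mul_comm 2 l, pow_mul (p5 ^ k) l 2, hl] at h2
  rw [← h2]
  group

end Cfsg.Agent.CpAut.SmallP.PslFour

end

private theorem dce_33170377b8fe : _root_.True := by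
  try have : _root_.True := by simp only [_root_.Cfsg.Agent.CpAut.SmallP.PslFour.c7.eq_1]
  try have : _root_.True := by simp only [_root_.Cfsg.Agent.CpAut.SmallP.PslFour.s7.eq_1]
  try have : _root_.True := by simp only [_root_.Cfsg.Agent.CpAut.SmallP.PslFour.s5.eq_1]
  try have : _root_.True := by simp only [_root_.Cfsg.Agent.CpAut.SmallP.PslFour.c5.eq_1]
  try have : _root_.True := by simp only [_root_.Cfsg.Agent.CpAut.SmallP.PslFour.m7.eq_1]
  try have : _root_.True := by simp only [_root_.Cfsg.Agent.CpAut.SmallP.PslFour.m5.eq_1]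
  exact _root_.True.intro
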