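import Cfsg.Agent.CpAut.SmallP.Tools
import Cfsg.Agent.KFacts.J2.Facts
import Cfsg.Agent.Prune
set_option linter.all false
prune_inst 0x7f00000000000000000000000000000000000000000000000000000000000000000000000000000000000000000000000000000000000000000000000000000000000000000000000000000000000000003fffffffffffffffffffffffffffbeffbdffffffff
open scoped Cfsg.Agent.FastGrp

/-!
# `L_5(J2) ⊆ C_5` (helper91)
-/

set_option autoImplicit false
set_option linter.unusedSectionVars false

namespace Cfsg.Agent.CpAut.SmallP.J2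

open Subgroup Cfsg Cfsg.Agent.J2Type.Base Cfsg.Agent.J2Type.CentU Cfsg.Agent.J2Type.Cent5

variable {G : Type*} [Group G] [Finite G] {z u : G}

theorem card_z (h : Fus z u) (x : G) (hx : orderOf x = 5) (hzx : z * x = x * z) :
    Nat.card ↥(DD x z) ∣ 4 * 5 := by
  have h1 := h.card10 x hx hzx.symm
  change Nat.card ↥(DD x z) = 10 at h1
  rw [h1]
  norm_num

theorem ok_z (h : Fus z u) (x : G) (hx : orderOf x = 5) (hzx : z * x = x * z) : Ok 5 x z :=
  Or.inr (Or.inl (card_z h x hx hzx))

theorem card_u (h : Fus z u) (x : G) (hx : orderOf x = 5) (hux : u * x = x * u) :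
    Nat.card ↥(DD x u) ∣ 4 * 5 := by
  obtain ⟨f, U, V, H0, F⟩ := J2Type.CentU.main h
  have h60 : Nat.card H0 = 60 := by
    have h1 := J2Type.Order.card_centralizer_u h
    rw [F.str.card] at h1
    omega
  obtain ⟨e⟩ := exists_equiv h F h60
  -- `x ∈ H0`
  have hxH : x ∈ H0 := by
    obtain ⟨a, ha, b, hb, hab⟩ := exists_mul F (mem_centralizer_singleton_iff.2 hux.symm)
    have hc : Commute a b := V_comm h F h60 ha hb
    have h5 : x ^ 5 = 1 := by rw [← hx]; exact pow_orderOf_eq_one x
    rw [hab, hc.mul_pow] at h5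
    have ha2 := sq_V h F ha
    have ha5 : a ^ 5 = a := by
      calc a ^ 5 = (a * a) * (a * a) * a := by simp only [pow_succ, pow_zero, one_mul, mul_assoc]
        _ = a := by rw [ha2, one_mul, one_mul]
    rw [ha5] at h5
    have haH : a ∈ H0 := by
      have h6 : a = (b ^ 5)⁻¹ := eq_inv_of_mul_eq_one_left h5
      rw [h6]
      exact H0.inv_mem (H0.pow_mem hb 5)
    have ha1 := V_inf_H0 F ha haH
    rw [hab, ha1, one_mul]
    exact hb
  have h5' : orderOf (⟨x, hxH⟩ : H0) = 5 := by rw [← orderOf_coe]; exact hx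
  have h1 := card_DD_of_mul (t := u) V (fun v hv => V_comm h F h60 hv hxH) (by
    intro s hs
    have hs' := mem_DD.1 hs
    have hu2 : u ≠ 1 := by
      intro h2
      have := h.hu
      rw [h2, orderOf_one] at this
      norm_num at this
    refine cent_VH h F h60 hxH ?_ u F.uV hu2 s hs'.1 hs'.2
    intro y hy hyx
    have h1 := J2Type.A5Facts.mem_zpowers_of_comm e (g := (⟨x, hxH⟩ : H0)) (x := ⟨y, hy⟩) h5' (Subtype.ext hyx)
    obtain ⟨k, hk⟩ := mem_zpowers_iff.mp h1
    exact ⟨k, (congrArg Subtype.val hk).symm⟩)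
  rw [F.cardV, hx] at h1
  exact h1

theorem ok_u (h : Fus z u) (x : G) (hx : orderOf x = 5) (hux : u * x = x * u) : Ok 5 x u :=
  Or.inr (Or.inl (card_u h x hx hux))

theorem comps (h : Fus z u) (x : G) (hx : orderOf x = 5) : LThree.Comps 5 ↥(centralizer ({x} : Set G)) := by
  refine main_ok (by norm_num) le_rfl (fun t ht ht1 y hy hty => ?_) x hx
  rcases h.cover t (orderOf_eq_prime (by rw [pow_two]; exact ht) ht1) with h1 | h1
  · exact ok_of_isConj h1 (ok_z h) hy hty
  · exact ok_of_isConj h1 (ok_u h) hy hty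

/-- **J2, p = 5** -/
theorem five {X : Type*} [Group X] [Finite X] (h : Spor.IsoJ2 X) (x : X) (hx : orderOf x = 5) :
    LThree.Comps 5 ↥(centralizer ({x} : Set X)) := by
  obtain ⟨t, u, Q, v, ρ, D⟩ := KFacts.J2.Facts.exists_dat_of h
  exact comps D.F x hx

end Cfsg.Agent.CpAut.SmallP.J2
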