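import Mathlib
import Cfsg.Agent.CpAut.SmallP.Tools
import Cfsg.Agent.TypeM.FactsMcL
import Cfsg.Agent.Prune
set_option linter.all false
prune_inst 0x7f00000000000000000000000000000000000000000000000000000000000000000000000000000000000000000000000000000000000000000000000000000000000000000000000000000000000000003fffffffffffffffffffffffffffbeffbdffffffff
open scoped Cfsg.Agent.FastGrp

-- merged: Cfsg.Agent.CpAut.SmallP.Alt
section

set_option autoImplicit false

namespace Cfsg.Agent.CpAut.SmallP.Alt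

open Subgroup Equiv Equiv.Perm

/-- centralizers in the alternating group -/
theorem card_inf_alternating {α : Type*} [Fintype α] [DecidableEq α] (g : Perm α)
    (h : ¬ centralizer ({g} : Set (Perm α)) ≤ alternatingGroup α) :
    2 * Nat.card ↥(centralizer ({g} : Set (Perm α)) ⊓ alternatingGroup α) =
      Nat.card ↥(centralizer ({g} : Set (Perm α))) := by
  let C := centralizer ({g} : Set (Perm α))
  let f : ↥C →* ℤˣ := sign.comp C.subtype
  have hf : Function.Surjective f := by
    obtain ⟨c, hc, hc'⟩ := SetLike.not_le_iff_exists.1 h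
    rw [mem_alternatingGroup] at hc'
    intro u
    rcases Int.units_eq_one_or u with rfl | rfl
    · exact ⟨1, map_one f⟩
    · refine ⟨⟨c, hc⟩, ?_⟩
      exact (Int.units_eq_one_or (sign c)).resolve_left hc'
  have h1 : f.ker = (alternatingGroup α).subgroupOf C := by
    ext x
    rw [MonoidHom.mem_ker, mem_subgroupOf, mem_alternatingGroup]
    rfl
  have h2 : Nat.card ↥C = Nat.card ↥f.ker * f.ker.index := (Subgroup.card_mul_index f.ker).symm
  have h3 : f.ker.index = 2 := by
    rw [Subgroup.index_ker, MonoidHom.range_eq_top.2 hf, Nat.card_congr Subgroup.topEquiv.toEquiv,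
      Nat.card_eq_fintype_card, Fintype.card_units_int]
  have h4 : Nat.card ↥f.ker = Nat.card ↥(C ⊓ alternatingGroup α) := by
    rw [h1, ← Subgroup.card_map_of_injective C.subtype_injective, subgroupOf_map_subtype, inf_comm]
  rw [h2, h3, h4, mul_comm]

theorem cycleType_of_prime {n p : ℕ} (hp : p.Prime) (h2 : n < 2 * p) {g : Perm (Fin n)} (hg : orderOf g = p) :
    g.cycleType = {p} := by
  obtain ⟨k, hk⟩ := cycleType_prime_order (σ := g) (by rw [hg]; exact hp)
  have h1 := sum_cycleType_le g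
  rw [hk, hg, Multiset.sum_replicate, Fintype.card_fin, smul_eq_mul] at h1
  have h3 : k = 0 := by
    by_contra hk0
    have h4 : 2 * p ≤ (k + 1) * p := Nat.mul_le_mul_right p (by omega)
    omega
  rw [hk, hg, h3]
  rfl

theorem card_centralizer_prime {n p : ℕ} (hp : p.Prime) (h2 : n < 2 * p) {g : Perm (Fin n)} (hg : orderOf g = p) :
    Nat.card ↥(centralizer ({g} : Set (Perm (Fin n)))) = (n - p).factorial * p := by
  rw [nat_card_centralizer, cycleType_of_prime hp h2 hg]
  simp

/-- the centralizer in `A_n` of a `p`-cycle, `p + 2 ≤ n < 2p` -/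
theorem card_alt_prime {n p : ℕ} (hp : p.Prime) (h2 : n < 2 * p) (hn : p + 2 ≤ n) {g : Perm (Fin n)} (hg : orderOf g = p) :
    2 * Nat.card ↥(centralizer ({g} : Set (Perm (Fin n))) ⊓ alternatingGroup (Fin n)) = (n - p).factorial * p := by
  rw [card_inf_alternating, card_centralizer_prime hp h2 hg]
  rw [Equiv.Perm.centralizer_le_alternating_iff, cycleType_of_prime hp h2 hg]
  rintro ⟨-, h3, -⟩
  rw [Fintype.card_fin, Multiset.sum_singleton] at h3
  omega

end Cfsg.Agent.CpAut.SmallP.Alt

end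

-- merged: Cfsg.Agent.CpAut.SmallP.McL
section

/-!
# `L_5(McL) ⊆ C_5` (helper91)
-/

set_option autoImplicit false

namespace Cfsg.Agent.CpAut.SmallP.McL

open Subgroup Cfsg Cfsg.Agent.TypeM.Two

theorem card_ker_two {C Y : Type*} [Group C] [Group Y] (π : C →* Y) (z : C) (hz : z ≠ 1)
    (h : ∀ x, π x = 1 ↔ x = 1 ∨ x = z) : Nat.card ↥π.ker = 2 := by
  have h1 : (π.ker : Set C) = {1, z} := by
    ext x
    rw [SetLike.mem_coe, MonoidHom.mem_ker, h]
    simp
  change Nat.card ↥(π.ker : Set C) = 2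
  rw [h1, Nat.card_coe_set_eq, Set.ncard_pair hz.symm]

/-- groups of type `MT 8` -/
theorem not_four_DD {G : Type*} [Group G] [Finite G] (L : MT 8 G) {t : G} (ht : t * t = 1) (ht1 : t ≠ 1) {x : G}
    (hx : orderOf x = 5) (htx : t * x = x * t) : ¬ 4 ∣ Nat.card ↥(DD x t) := by
  obtain ⟨L, rfl⟩ := L.exists_rebase ht ht1
  intro h4
  have hxc : x ∈ centralizer ({L.t} : Set G) := mem_centralizer_singleton_iff.2 htx.symm
  have hx' : orderOf (⟨x, hxc⟩ : ↥(centralizer ({L.t} : Set G))) = 5 := by rw [Subgroup.orderOf_mk, hx]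
  have h5 : (5 : ℕ).Prime := by norm_num
  have ho : orderOf (L.K.π ⟨x, hxc⟩) = 5 := by
    have h1 : orderOf (L.K.π ⟨x, hxc⟩) ∣ 5 := by
      rw [← hx']
      exact orderOf_map_dvd _ _
    rcases (Nat.dvd_prime h5).1 h1 with h2 | h2
    · exfalso
      rw [orderOf_eq_one_iff, L.K.ker] at h2
      have h3 : (⟨x, hxc⟩ : ↥(centralizer ({L.t} : Set G))) ^ 2 = 1 := by
        rcases h2 with h2 | h2 <;> rw [h2]
        · exact one_pow 2
        · exact L.K.z_pow_two
      have h6 := orderOf_dvd_of_pow_eq_one h3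
      rw [hx'] at h6
      norm_num at h6
    · exact h2
  have h1 := card_DD_dvd hxc L.K.π (alternatingGroup (Fin 8)) L.K.range_eq.le
  have h2 := Alt.card_alt_prime h5 (n := 8) (by norm_num) (by norm_num) ho
  have h3 : Nat.card ↥(L.K.π.ker ⊓ centralizer ({(⟨x, hxc⟩ : ↥(centralizer ({L.t} : Set G)))} : Set _)) ∣ 2 := by
    rw [← card_ker_two L.K.π L.K.z L.K.z_ne L.K.ker]
    exact Subgroup.card_dvd_of_le inf_le_left
  have h6 : Nat.card ↥(centralizer ({L.K.π ⟨x, hxc⟩} : Set (Equiv.Perm (Fin 8))) ⊓ alternatingGroup (Fin 8)) = 15 := by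
    have h7 : (8 - 5).factorial * 5 = 30 := by decide
    omega
  rw [h6] at h1
  have h7 := (h4.trans h1).trans (Nat.mul_dvd_mul_right h3 15)
  norm_num at h7

theorem ok {G : Type*} [Group G] [Finite G] (L : MT 8 G) {t : G} (ht : t * t = 1) (ht1 : t ≠ 1) {x : G}
    (hx : orderOf x = 5) (htx : t * x = x * t) : Ok 5 x t :=
  ok_of_not_four_dvd ht ht1 htx (not_four_DD L ht ht1 hx htx)

theorem comps {G : Type*} [Group G] [Finite G] (L : MT 8 G) (x : G) (hx : orderOf x = 5) :
    LThree.Comps 5 ↥(centralizer ({x} : Set G)) :=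
  main_ok (by norm_num) le_rfl (fun _ ht ht1 _ hx htx => ok L ht ht1 hx htx) x hx

/-- **McL, p = 5** -/
theorem five {X : Type*} [Group X] (h : Spor.IsoMcL X) (x : X) (hx : orderOf x = 5) :
    LThree.Comps 5 ↥(centralizer ({x} : Set X)) := by
  obtain ⟨hf, -, -, ⟨L⟩⟩ := TypeM.FactsMcL.facts h
  exact comps L x hx

end Cfsg.Agent.CpAut.SmallP.McL

end
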